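import Mathlib

/-!
# Arithmetic of a self-centralisation system of type (2, 4, 4)

`n` is the order of the subgroup with index two in its normaliser, `P` the product of the other two
orders, `D`, `s` degree and value at an involution of the second character on its column, `d = D - s`,
and `c = τ * d` the order of the centraliser of an involution.

Owner: helper68.
-/

set_option autoImplicit false

namespace Cfsg.Agent.Lib.SuzukiSystem68

/-- The upper bound `m ≤ 3N` leaves only `u = 1`, or `κ = 1` and `u ∈ {n + 1, 3n + 1}`. -/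
theorem u_cases {n P κ τ : ℕ} {δ D : ℤ} (hn : 9 ≤ n) (hodd : Odd n) (hP : 117 ≤ P) (hκ : 1 ≤ κ)
    (hδ : δ = 1 ∨ δ = -1) (hD : D = κ * P - δ) (hτ : 1 ≤ τ) (hu : (n : ℤ) ∣ (τ : ℤ) ^ 2 - 1)
    (hle : (κ : ℤ) * (τ : ℤ) ^ 2 * D ≤ 3 * n * P) :
    τ = 1 ∨ (κ = 1 ∧ Even τ ∧ ∃ j : ℕ, (j = 1 ∨ j = 3) ∧ τ ^ 2 = 1 + j * n) := by
  by_cases h1 : τ = 1
  · exact Or.inl h1
  right
  obtain ⟨j, hj⟩ := hu
  have hn' : (9 : ℤ) ≤ n := by exact_mod_cast hn
  have hP' : (117 : ℤ) ≤ P := by exact_mod_cast hP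
  have hτ2 : (2 : ℤ) ≤ τ := by exact_mod_cast (show 2 ≤ τ by omega)
  have hj1 : 1 ≤ j := by nlinarith
  have hκ' : (1 : ℤ) ≤ κ := by exact_mod_cast hκ
  have hκP : (117 : ℤ) ≤ κ * P := by nlinarith
  have hD1 : (κ : ℤ) * P - 1 ≤ D := by rcases hδ with rfl | rfl <;> omega
  have hu' : (τ : ℤ) ^ 2 = 1 + j * n := by linear_combination hj
  have h2 : (κ : ℤ) * (1 + j * n) * (κ * P - 1) ≤ 3 * n * P := by
    refine le_trans ?_ hle
    rw [hu']
    exact mul_le_mul_of_nonneg_left hD1 (by positivity)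
  have hκ1 : κ = 1 := by
    by_contra hne
    have hκ2 : (2 : ℤ) ≤ κ := by exact_mod_cast (show 2 ≤ κ by omega)
    have h3 : 2 * (1 + (n : ℤ)) ≤ (κ : ℤ) * (1 + j * n) :=
      mul_le_mul hκ2 (by nlinarith) (by positivity) (by positivity)
    have h4 : 2 * (P : ℤ) - 1 ≤ κ * P - 1 := by nlinarith
    have h5 : 2 * (1 + (n : ℤ)) * (2 * P - 1) ≤ 3 * n * P :=
      le_trans (mul_le_mul h3 h4 (by linarith) (by positivity)) h2
    nlinarith
  subst hκ1
  push_cast at h2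
  rw [one_mul, one_mul] at h2
  have hj3 : j ≤ 3 := by
    by_contra hc
    have h3 : (1 + 4 * (n : ℤ)) * (P - 1) ≤ (1 + j * n) * (P - 1) :=
      mul_le_mul_of_nonneg_right (by nlinarith) (by linarith)
    nlinarith
  obtain ⟨j', rfl⟩ : ∃ j' : ℕ, j = (j' : ℤ) := ⟨j.toNat, (Int.toNat_of_nonneg (by omega)).symm⟩
  have hτn : τ ^ 2 = 1 + j' * n := by exact_mod_cast hu'
  have hj' : j' = 1 ∨ j' = 2 ∨ j' = 3 := by omega
  obtain ⟨a, rfl⟩ := hodd
  have heven : Even τ := by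
    rcases Nat.even_or_odd τ with h | ⟨b, rfl⟩
    · exact h
    exfalso
    have hb : Even (b * (b + 1)) := Nat.even_mul_succ_self b
    obtain ⟨w, hw⟩ := hb
    have e : (2 * b + 1) ^ 2 = 8 * w + 1 := by
      rw [show (2 * b + 1) ^ 2 = 4 * (b * (b + 1)) + 1 by ring, hw]; ring
    rcases hj' with rfl | rfl | rfl <;> omega
  refine ⟨rfl, heven, j', ?_, hτn⟩
  obtain ⟨b, rfl⟩ := heven
  have e : (b + b) ^ 2 = 4 * (b * b) := by ring
  rcases hj' with rfl | rfl | rfl <;> omega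

/-- The last finitely many cases of `even_false`. -/
theorem finite_check : ∀ b < 13, ∀ a < 9, 108 ≤ (b + b) * a → ∀ j, (j = 1 ∨ j = 3) →
    ((b + b) ^ 2 - 1) % j = 0 →
    ¬ ((b + b) ^ 2 - 1) / j ∣ (b + b) * a + a + 1 ∧ ¬ ((b + b) ^ 2 - 1) / j ∣ (b + b) * a + a - 1 ∧
      ¬ ((b + b) ^ 2 - 1) / j ∣ (b + b) * a - a + 1 ∧ ¬ ((b + b) ^ 2 - 1) / j ∣ (b + b) * a - a - 1 := by
  intro b hb a ha h j hj
  have ha5 : 5 ≤ a := by
    by_contra hc
    have := Nat.mul_le_mul (show b + b ≤ 24 by omega) (show a ≤ 4 by omega)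
    omega
  have hb7 : 7 ≤ b := by
    by_contra hc
    have := Nat.mul_le_mul (show b + b ≤ 12 by omega) (show a ≤ 8 by omega)
    omega
  rcases hj with rfl | rfl <;> interval_cases b <;> interval_cases a
  all_goals norm_num at h
  all_goals norm_num

/-- The case `τ` even does not occur. -/
theorem even_false {n P τ j d o a : ℕ} {δ D s : ℤ} (hn : 9 ≤ n) (hP : 117 ≤ P)
    (hδ : δ = 1 ∨ δ = -1) (hD : D = P - δ) (hτe : Even τ) (hj : j = 1 ∨ j = 3)
    (hτ : τ ^ 2 = 1 + j * n) (hd : (d : ℤ) = D - s) (hmod : (n : ℤ) ∣ D - δ)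
    (hnorm : ((n : ℤ) - 1) * (1 + δ * s) ^ 2 + 2 * s ^ 2 + 2 ≤ 2 * (τ * d))
    (ho : Odd o) (hdo : d * o = τ * (D.natAbs)) (ha : a = s.natAbs) : False := by
  have hDpos : 116 ≤ D := by rcases hδ with rfl | rfl <;> omega
  have hdo' : (d : ℤ) * o = τ * D := by
    have : ((d * o : ℕ) : ℤ) = ((τ * D.natAbs : ℕ) : ℤ) := by rw [hdo]
    push_cast at this
    rwa [abs_of_pos (show (0 : ℤ) < D by omega)] at this
  have ht : (τ : ℤ) * s = d * ((o : ℤ) - τ) := by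
    linear_combination (τ : ℤ) * hd - hdo'
  have hne : (o : ℤ) - τ ≠ 0 := by
    intro h
    obtain ⟨x, rfl⟩ := ho
    obtain ⟨y, rfl⟩ := hτe
    push_cast at h
    omega
  obtain ⟨q, hq⟩ : ∃ q : ℕ, τ * a = d * (q + 1) := by
    refine ⟨((o : ℤ) - τ).natAbs - 1, ?_⟩
    have := congrArg Int.natAbs ht
    rw [Int.natAbs_mul, Int.natAbs_mul, Int.natAbs_natCast, Int.natAbs_natCast, ← ha] at this
    have h1 : 1 ≤ ((o : ℤ) - τ).natAbs := Int.natAbs_pos.2 hne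
    rw [this, Nat.sub_add_cancel h1]
  have hdle : d ≤ τ * a := by rw [hq]; exact Nat.le_mul_of_pos_right d (by omega)
  have ha' : s = a ∨ s = -(a : ℤ) := by omega
  have hsq : ((a : ℤ) - 1) ^ 2 ≤ (1 + δ * s) ^ 2 := by
    rcases hδ with rfl | rfl <;> rcases ha' with rfl | rfl <;> nlinarith
  have hn' : (9 : ℤ) ≤ n := by exact_mod_cast hn
  have hτ' : (τ : ℤ) ^ 2 = 1 + j * n := by exact_mod_cast hτ
  have hdle' : (d : ℤ) ≤ τ * a := by exact_mod_cast hdle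
  have hj3 : (j : ℤ) ≤ 3 := by rcases hj with rfl | rfl <;> norm_num
  have hnorm2 : ((n : ℤ) - 1) * ((a : ℤ) - 1) ^ 2 + 2 * (a : ℤ) ^ 2 + 2 ≤ 2 * ((τ : ℤ) * d) := by
    refine le_trans ?_ hnorm
    have : (a : ℤ) ^ 2 = s ^ 2 := by rcases ha' with rfl | rfl <;> ring
    rw [this]
    have := mul_le_mul_of_nonneg_left hsq (show (0 : ℤ) ≤ (n : ℤ) - 1 by omega)
    linarith
  have ha8 : a ≤ 8 := by
    by_contra hc
    have hc' : (9 : ℤ) ≤ a := by exact_mod_cast (show 9 ≤ a by omega)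
    have h1 : (τ : ℤ) * d ≤ (1 + 3 * n) * a := by
      calc (τ : ℤ) * d ≤ τ * (τ * a) := mul_le_mul_of_nonneg_left hdle' (by positivity)
        _ = (1 + j * n) * a := by rw [← hτ']; ring
        _ ≤ _ := by
            apply mul_le_mul_of_nonneg_right _ (by positivity)
            nlinarith
    nlinarith [mul_nonneg (show (0 : ℤ) ≤ (n : ℤ) - 1 by omega) (show (0 : ℤ) ≤ ((a : ℤ) - 1) ^ 2 - 7 * a by nlinarith)]
  have hD' : D ≤ d + a := by rcases ha' with rfl | rfl <;> omega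
  have hlo : 108 ≤ d := by omega
  have hq0 : q = 0 ∨ 216 ≤ τ * a := by
    rcases Nat.eq_zero_or_pos q with h | h
    · exact Or.inl h
    · right
      rw [hq]
      calc 216 = 108 * 2 := rfl
        _ ≤ d * (q + 1) := Nat.mul_le_mul hlo (by omega)
  obtain ⟨k, hk⟩ := hmod
  have hτ25 : τ ≤ 25 := by
    by_contra hc
    have hc' : (26 : ℤ) ≤ τ := by exact_mod_cast (show 26 ≤ τ by omega)
    have h8 : (τ : ℤ) * a ≤ τ * 8 := mul_le_mul_of_nonneg_left (by exact_mod_cast ha8) (by positivity)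
    have hDb : D + 1 ≤ 8 * (τ : ℤ) + 9 := by omega
    have hDd : D - δ ≠ 0 := by rcases hδ with rfl | rfl <;> omega
    have hnle : (n : ℤ) ≤ |D - δ| := by
      refine Int.le_of_dvd (abs_pos.2 hDd) ?_
      rw [dvd_abs]
      exact ⟨k, hk⟩
    have habs : |D - δ| ≤ 8 * (τ : ℤ) + 9 := by
      rw [abs_of_nonneg (by rcases hδ with rfl | rfl <;> omega)]
      rcases hδ with rfl | rfl <;> omega
    have h3 : (τ : ℤ) ^ 2 ≤ 1 + 3 * n := by nlinarith
    nlinarith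
  have hτ14 : 14 ≤ τ := by
    by_contra hc
    have := Nat.mul_le_mul (show τ ≤ 13 by omega) ha8
    omega
  have hqq : q = 0 := by
    rcases hq0 with h | h
    · exact h
    · have := Nat.mul_le_mul hτ25 ha8
      omega
  subst hqq
  rw [zero_add, mul_one] at hq
  subst hq
  obtain ⟨b, rfl⟩ := hτe
  have hn2 : n = ((b + b) ^ 2 - 1) / j ∧ ((b + b) ^ 2 - 1) % j = 0 := by
    rw [hτ, Nat.add_sub_cancel_left]
    exact ⟨(Nat.mul_div_cancel_left n (by omega)).symm, Nat.mul_mod_right j n⟩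
  obtain ⟨e1, e2, e3, e4⟩ := finite_check b (by omega) a (by omega) (by omega) j hj hn2.2
  rw [← hn2.1] at e1 e2 e3 e4
  have hdiv : (n : ℤ) ∣ D - δ := ⟨k, hk⟩
  have hDeq : D = ((b + b) * a : ℕ) + s := by linarith
  have h1a : 1 ≤ a := by
    rcases Nat.eq_zero_or_pos a with rfl | h
    · simp at hlo
    · exact h
  have h2a : a + 1 ≤ (b + b) * a := by nlinarith
  rcases hδ with rfl | rfl <;> rcases ha' with h | h
  · exact e2 (Int.natCast_dvd_natCast.1 (by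
      rw [Nat.cast_sub (by omega)]; push_cast; push_cast at hDeq; convert hdiv using 1; omega))
  · exact e4 (Int.natCast_dvd_natCast.1 (by
      rw [Nat.cast_sub (by omega), Nat.cast_sub (by omega)]; push_cast; push_cast at hDeq
      convert hdiv using 1; omega))
  · exact e1 (Int.natCast_dvd_natCast.1 (by
      push_cast; push_cast at hDeq; convert hdiv using 1; omega))
  · exact e3 (Int.natCast_dvd_natCast.1 (by
      rw [Nat.cast_add, Nat.cast_sub (by omega)]; push_cast; push_cast at hDeq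
      convert hdiv using 1; omega))

/-- With two further characters of degree `N` there is no solution. -/
theorem r_two_false {n P κ : ℕ} (hn : 9 ≤ n) (hP : 117 ≤ P)
    (hup : (κ : ℤ) * (κ * P - 1) ≤ 3 * n * P)
    (hlow : 4 * (n : ℤ) ^ 2 * P ≤ (n + 1) * κ ^ 2 * P + 2 * n * κ) : False := by
  have hn' : (9 : ℤ) ≤ n := by exact_mod_cast hn
  have hP' : (117 : ℤ) ≤ P := by exact_mod_cast hP
  have hκ : (0 : ℤ) ≤ κ := by positivity
  have h1 : (κ : ℤ) ^ 2 * P ≤ 3 * n * P + κ := by linarith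
  have hκn : (κ : ℤ) ≤ 4 * n := by
    by_contra hc
    have hc' : 4 * (n : ℤ) ≤ κ := by omega
    have h3 : 4 * (n : ℤ) * P - 1 ≤ κ * P - 1 := by
      linarith [mul_le_mul_of_nonneg_right hc' (show (0 : ℤ) ≤ P by positivity)]
    have h4 := mul_le_mul hc' h3 (by nlinarith) hκ
    nlinarith [mul_le_mul hn' hP' (by norm_num) (by linarith)]
  have h2 := mul_le_mul_of_nonneg_left h1 (show (0 : ℤ) ≤ (n : ℤ) + 1 by linarith)
  have h5 := mul_le_mul_of_nonneg_left hκn (show (0 : ℤ) ≤ 3 * (n : ℤ) + 1 by linarith)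
  nlinarith [mul_nonneg (mul_nonneg (show (0 : ℤ) ≤ (n : ℤ) by linarith) (show (0 : ℤ) ≤ (n : ℤ) - 3 by linarith))
    (show (0 : ℤ) ≤ (P : ℤ) - 117 by linarith),
    mul_nonneg (show (0 : ℤ) ≤ (n : ℤ) by linarith) (show (0 : ℤ) ≤ (n : ℤ) - 9 by linarith)]

/-- An odd prime in the centraliser of an involution contradicts the norm bound. -/
theorem odd_factor_false {n P κ g : ℕ} {δ s : ℤ} (hn : 9 ≤ n) (hP : 117 ≤ P) (hδ : δ = 1 ∨ δ = -1)
    (hκ : 1 ≤ κ) (hup : (κ : ℤ) * (κ * P - δ) ≤ 3 * n * P) (hg : 3 ≤ g) (hgs : (g : ℤ) ∣ s) (hs : s ≠ 0)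
    (hnorm : ((n : ℤ) - 1) * (1 + δ * s) ^ 2 + 2 * s ^ 2 + 2 ≤ 2 * (κ * g)) : False := by
  obtain ⟨a, ha⟩ : ∃ a : ℕ, a = s.natAbs := ⟨_, rfl⟩
  have ha' : s = a ∨ s = -(a : ℤ) := by omega
  have hga : g ≤ a := by
    rw [ha]
    exact Nat.le_of_dvd (Int.natAbs_pos.2 hs) (Int.natCast_dvd.1 hgs)
  have hsq : ((a : ℤ) - 1) ^ 2 ≤ (1 + δ * s) ^ 2 := by
    rcases hδ with rfl | rfl <;> rcases ha' with rfl | rfl <;> nlinarith
  have hn' : (9 : ℤ) ≤ n := by exact_mod_cast hn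
  have hP' : (117 : ℤ) ≤ P := by exact_mod_cast hP
  have hκ' : (1 : ℤ) ≤ κ := by exact_mod_cast hκ
  have ha3 : (3 : ℤ) ≤ a := by exact_mod_cast hg.trans hga
  have hga' : (g : ℤ) ≤ a := by exact_mod_cast hga
  have h1 : ((n : ℤ) - 1) * ((a : ℤ) - 1) ^ 2 ≤ 2 * κ * a := by
    have := mul_le_mul_of_nonneg_left hsq (show (0 : ℤ) ≤ (n : ℤ) - 1 by omega)
    nlinarith [mul_le_mul_of_nonneg_left hga' (show (0 : ℤ) ≤ κ by positivity), sq_nonneg s]
  have h2 : ((n : ℤ) - 1) * (4 * a) ≤ 6 * κ * a := by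
    nlinarith [mul_nonneg (show (0 : ℤ) ≤ (n : ℤ) - 1 by omega)
      (mul_nonneg (show (0 : ℤ) ≤ (a : ℤ) - 3 by omega) (show (0 : ℤ) ≤ 3 * (a : ℤ) - 1 by omega))]
  have h3 : 2 * ((n : ℤ) - 1) ≤ 3 * κ := by nlinarith
  have h4 : (κ : ℤ) ^ 2 * 116 ≤ 351 * n := by
    have : (κ : ℤ) ^ 2 * P - κ ≤ 3 * n * P := by rcases hδ with rfl | rfl <;> nlinarith
    by_contra hc
    nlinarith [mul_nonneg (show (0 : ℤ) ≤ (κ : ℤ) ^ 2 * 116 - 351 * n - 1 by omega) (show (0 : ℤ) ≤ (P : ℤ) - 117 by omega)]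
  nlinarith [mul_le_mul h3 h3 (by linarith) (by linarith)]

end Cfsg.Agent.Lib.SuzukiSystem68
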