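import Cfsg.Agent.Lib.SzDegrees.CC

/-!
# Elementary facts on subgroups equal to the centralisers of their non-trivial elements

Owner: helper68.
-/

set_option autoImplicit false
set_option linter.unusedSectionVars false

namespace Cfsg.Agent.Lib.SuzukiSystem68

open scoped Classical
open Cfsg.Agent.Lib.SzDegrees
open Cfsg.Agent.Lib.SzTori (conjSet ti_of_centralizer)

universe u

variable {G : Type u} [Group G] [Fintype G] {C C' : Subgroup G}

theorem cc_exists_ne_one (h : 2 ≤ Nat.card C) : ∃ c ∈ C, c ≠ 1 := by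
  haveI : Nontrivial C := Finite.one_lt_card_iff_nontrivial.1 h
  obtain ⟨c, hc⟩ := exists_ne (1 : C)
  exact ⟨c, c.2, fun e => hc (Subtype.ext e)⟩

theorem cc_card_normalizer {e : ℕ} (h : C.relIndex (Subgroup.normalizer (C : Set G)) = e) :
    Nat.card (Subgroup.normalizer (C : Set G)) = e * Nat.card C := by
  rw [← h, Subgroup.relIndex, ← Nat.card_congr (Subgroup.subgroupOfEquivOfLe
    (Subgroup.le_normalizer (H := C))).toEquiv, Subgroup.index_mul_card]

theorem cc_orb_card (hC : IsCC C) {e : ℕ} (h : C.relIndex (Subgroup.normalizer (C : Set G)) = e) :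
    ∀ ν : C →* ℂˣ, ν ≠ 1 → (orb ν).card = e := fun _ hν =>
  Nat.eq_of_mul_eq_mul_right Nat.card_pos ((card_orb_mul hC hν).trans (cc_card_normalizer h))

theorem cc_sylow_le (hC : IsCC C) {p : ℕ} [Fact p.Prime] (hp : p ∣ Nat.card C) :
    ∃ S : Sylow p G, (S : Subgroup G) ≤ C := by
  obtain ⟨a, ha⟩ := exists_prime_orderOf_dvd_card' p hp
  have ha' : orderOf (a : G) = p := by rw [Subgroup.orderOf_coe, ha]
  have hz : IsPGroup p (Subgroup.zpowers (a : G)) :=
    IsPGroup.of_card (n := 1) (by rw [Nat.card_zpowers, ha', pow_one])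
  obtain ⟨S, hS⟩ := hz.exists_le_sylow
  have haS : (a : G) ∈ (S : Subgroup G) := hS (Subgroup.mem_zpowers _)
  have ha1 : (a : G) ≠ 1 := fun e => (Fact.out : p.Prime).one_lt.ne' (by rw [← ha', e, orderOf_one])
  haveI : Nontrivial (S : Subgroup G) := ⟨⟨⟨a, haS⟩, 1, fun e => ha1 (congrArg Subtype.val e)⟩⟩
  haveI := S.isPGroup'.center_nontrivial
  obtain ⟨⟨w, hw⟩, hw1⟩ := exists_ne (1 : Subgroup.center (S : Subgroup G))
  have hw1' : (w : G) ≠ 1 := fun e => hw1 (Subtype.ext (Subtype.ext e))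
  have hwa : (w : G) ∈ C := by
    rw [← hC a a.2 ha1, Subgroup.mem_centralizer_singleton_iff]
    exact (congrArg Subtype.val (Subgroup.mem_center_iff.1 hw ⟨a, haS⟩)).symm
  refine ⟨S, fun x hx => ?_⟩
  rw [← hC w hwa hw1', Subgroup.mem_centralizer_singleton_iff]
  exact congrArg Subtype.val (Subgroup.mem_center_iff.1 hw ⟨x, hx⟩)

theorem cc_hall (hC : IsCC C) : (Nat.card C).Coprime C.index := by
  refine Nat.coprime_of_dvd fun p hp h1 h2 => ?_
  haveI := Fact.mk hp
  obtain ⟨S, hS⟩ := cc_sylow_le hC h1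
  exact S.not_dvd_index (h2.trans (Subgroup.index_dvd_of_le hS))

theorem cc_disjoint (hC : IsCC C) (hC' : IsCC C')
    (hnc : ∀ g : G, C.map (MulAut.conj g).toMonoidHom ≠ C') :
    ∀ c : C', c ≠ 1 → (c : G) ∉ conjSet C := by
  intro c hc
  rintro ⟨g, d, hd, hd1, hgd⟩
  refine hnc g ?_
  have h1 := hC' c c.2 fun e => hc (Subtype.ext e)
  rw [← h1, ← hgd]
  ext x
  rw [Subgroup.mem_map_equiv, MulAut.conj_symm_apply, ← hC d hd hd1,
    Subgroup.mem_centralizer_singleton_iff, Subgroup.mem_centralizer_singleton_iff]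
  constructor
  · intro h
    calc x * (g * d * g⁻¹) = g * (g⁻¹ * x * g * d) * g⁻¹ := by group
      _ = g * (d * (g⁻¹ * x * g)) * g⁻¹ := by rw [h]
      _ = g * d * g⁻¹ * x := by group
  · intro h
    calc g⁻¹ * x * g * d = g⁻¹ * (x * (g * d * g⁻¹)) * g := by group
      _ = g⁻¹ * (g * d * g⁻¹ * x) * g := by rw [h]
      _ = d * (g⁻¹ * x * g) := by group

theorem cc_coprime (hC : IsCC C) (hC' : IsCC C')
    (hnc : ∀ g : G, C.map (MulAut.conj g).toMonoidHom ≠ C') :
    (Nat.card C).Coprime (Nat.card C') := by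
  refine Nat.coprime_of_dvd fun p hp h1 h2 => ?_
  haveI := Fact.mk hp
  obtain ⟨S, hS⟩ := cc_sylow_le hC h1
  obtain ⟨T, hT⟩ := cc_sylow_le hC' h2
  obtain ⟨g, rfl⟩ := MulAction.exists_smul_eq G S T
  obtain ⟨a, ha⟩ := exists_prime_orderOf_dvd_card' p
    (show p ∣ Nat.card (S : Subgroup G) from S.dvd_card_of_dvd_card
      (h1.trans (Subgroup.card_subgroup_dvd_card C)))
  have ha1 : (a : G) ≠ 1 := fun e => hp.one_lt.ne'
    (by rw [← ha, ← Subgroup.orderOf_coe, e, orderOf_one])
  have hga : g * (a : G) * g⁻¹ ∈ ((g • S : Sylow p G) : Subgroup G) := by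
    rw [Sylow.coe_subgroup_smul, Subgroup.mem_pointwise_smul_iff_inv_smul_mem, MulAut.smul_def,
      ← map_inv, MulAut.conj_apply]
    simpa [mul_assoc] using a.2
  refine cc_disjoint hC hC' hnc ⟨_, hT hga⟩ (fun e => ha1 ?_) ⟨g, a, hS a.2, ha1, rfl⟩
  exact conj_eq_one_iff.1 (congrArg Subtype.val e)

theorem cc_odd (hC : IsCC C) {e : ℕ} (he : 2 ∣ e)
    (h : C.relIndex (Subgroup.normalizer (C : Set G)) = e) : Odd (Nat.card C) := by
  have h1 : e ∣ C.index := h ▸ Subgroup.relIndex_dvd_index_of_le Subgroup.le_normalizer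
  rw [← Nat.not_even_iff_odd, even_iff_two_dvd]
  exact fun h2 => absurd (Nat.eq_one_of_dvd_coprimes (cc_hall hC) h2 (he.trans h1)) (by norm_num)

theorem cc_mem_of_coprime (hC : IsCC C) {x : G} (hx : x ∈ Subgroup.normalizer (C : Set G))
    (hcop : (orderOf x).Coprime (C.relIndex (Subgroup.normalizer (C : Set G)))) : x ∈ C := by
  haveI : (C.subgroupOf (Subgroup.normalizer (C : Set G))).Normal := Subgroup.normal_in_normalizer
  set N := Subgroup.normalizer (C : Set G)
  let q : N →* N ⧸ C.subgroupOf N := QuotientGroup.mk' _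
  have h1 : orderOf (q ⟨x, hx⟩) ∣ orderOf x := by
    have := orderOf_map_dvd q ⟨x, hx⟩
    rwa [Subgroup.orderOf_mk] at this
  have h2 : orderOf (q ⟨x, hx⟩) ∣ C.relIndex N := by
    rw [Subgroup.relIndex, Subgroup.index_eq_card]
    exact orderOf_dvd_natCard _
  have h3 := orderOf_eq_one_iff.1 (Nat.eq_one_of_dvd_coprimes hcop h1 h2)
  exact (QuotientGroup.eq_one_iff (⟨x, hx⟩ : N)).1 h3

/-- An involution of the normaliser inverts `C`. -/
theorem cc_inverts (hC : IsCC C) (hodd : Odd (Nat.card C)) {z : G}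
    (hz : z ∈ Subgroup.normalizer (C : Set G)) (hzC : z ∉ C) (hz2 : z * z = 1) :
    ∀ a ∈ C, z * a * z = a⁻¹ := by
  intro a ha
  have hzi : z⁻¹ = z := inv_eq_of_mul_eq_one_right hz2
  have hfa : z * a * z ∈ C := by
    have := (Subgroup.mem_normalizer_iff.1 hz a).1 ha
    rwa [hzi] at this
  have hcomm : a * (z * a * z) = z * a * z * a :=
    congrArg Subtype.val (hC.comm ⟨a, ha⟩ ⟨_, hfa⟩)
  have hfix : z * (a * (z * a * z)) = a * (z * a * z) * z := by
    calc z * (a * (z * a * z)) = (z * a * z) * a * z := by simp only [mul_assoc]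
      _ = a * (z * a * z) * z := by rw [hcomm]
  have h1 : a * (z * a * z) = 1 := by
    by_contra hne
    refine hzC ?_
    rw [← hC _ (C.mul_mem ha hfa) hne, Subgroup.mem_centralizer_singleton_iff]
    exact hfix
  exact eq_inv_of_mul_eq_one_right h1

/-- The involutions of the normaliser in the case of index two. -/
theorem cc_exists_involution (hC : IsCC C) (hodd : Odd (Nat.card C))
    (h : C.relIndex (Subgroup.normalizer (C : Set G)) = 2) :
    ∃ z ∈ Subgroup.normalizer (C : Set G), z ∉ C ∧ z * z = 1 ∧ (∀ a ∈ C, z * a * z = a⁻¹) ∧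
      ∀ x ∈ Subgroup.normalizer (C : Set G), x ∉ C → ∃ b ∈ C, x = b * z * b⁻¹ := by
  set N := Subgroup.normalizer (C : Set G) with hN
  obtain ⟨⟨z, hzN⟩, hz⟩ := exists_prime_orderOf_dvd_card' (G := N) 2
    (by rw [cc_card_normalizer h]; exact dvd_mul_right 2 _)
  rw [Subgroup.orderOf_mk] at hz
  have hz2 : z * z = 1 := by rw [← sq, ← hz, pow_orderOf_eq_one]
  have hzC : z ∉ C := fun hm => by
    have h1 := Subgroup.orderOf_dvd_natCard C hm
    rw [hz] at h1
    exact Nat.not_even_iff_odd.2 hodd (even_iff_two_dvd.2 h1)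
  have hinv := cc_inverts hC hodd hzN hzC hz2
  refine ⟨z, hzN, hzC, hz2, hinv, fun x hx hxC => ?_⟩
  have hmem : x * z ∈ C := by
    have := Subgroup.mul_mem_iff_of_index_two (H := C.subgroupOf N) h (a := ⟨x, hx⟩) (b := ⟨z, hzN⟩)
    simp only [Subgroup.mem_subgroupOf, Subgroup.coe_mul] at this
    exact this.2 ⟨fun e => absurd e hxC, fun e => absurd e hzC⟩
  obtain ⟨j, hj⟩ := hodd
  set a := x * z with ha
  have hbb : a ^ (j + 1) * a ^ (j + 1) = a := by
    rw [← pow_add, show j + 1 + (j + 1) = Nat.card C + 1 by omega, pow_succ]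
    have h1 : a ^ Nat.card C = 1 :=
      orderOf_dvd_iff_pow_eq_one.1 (Subgroup.orderOf_dvd_natCard C hmem)
    rw [h1, one_mul]
  have hb : a ^ (j + 1) ∈ C := pow_mem hmem _
  refine ⟨_, hb, ?_⟩
  have hi : z * (a ^ (j + 1))⁻¹ = a ^ (j + 1) * z := by
    have h1 := hinv _ (C.inv_mem hb)
    rw [inv_inv] at h1
    conv_rhs => rw [← h1]
    rw [mul_assoc _ z z, hz2, mul_one]
  rw [mul_assoc, hi, ← mul_assoc, hbb, ha, mul_assoc, hz2, mul_one]

/-- An element of order four in the case of index four. -/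
theorem cc_exists_order_four (hC : IsCC C) (h2 : 2 ≤ Nat.card C) (hodd : Odd (Nat.card C))
    (h : C.relIndex (Subgroup.normalizer (C : Set G)) = 4) :
    ∃ y ∈ Subgroup.normalizer (C : Set G), orderOf y = 4 := by
  set N := Subgroup.normalizer (C : Set G) with hN
  haveI : Fact (Nat.Prime 2) := ⟨Nat.prime_two⟩
  obtain ⟨T, hT⟩ := Sylow.exists_subgroup_card_pow_prime (G := N) 2 (n := 2)
    (by rw [cc_card_normalizer h]; exact dvd_mul_right 4 _)
  by_contra hno
  push Not at hno
  have hsq : ∀ t : T, t * t = 1 := by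
    intro t
    have h1 : orderOf t ∣ 2 ^ 2 := hT ▸ orderOf_dvd_natCard t
    obtain ⟨i, hi, hi'⟩ := (Nat.dvd_prime_pow Nat.prime_two).1 h1
    have hne : orderOf t ≠ 4 := by
      rw [← Subgroup.orderOf_coe, ← Subgroup.orderOf_coe]
      exact hno _ (t : N).2
    have hi1 : i ≤ 1 := by
      by_contra hc
      rw [show i = 2 by omega] at hi'
      exact hne hi'
    rw [← sq]
    exact orderOf_dvd_iff_pow_eq_one.1 (hi'.dvd.trans (by
      simpa using pow_dvd_pow 2 hi1))
  have hnot : ∀ t : T, t ≠ 1 → ((t : N) : G) ∉ C := by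
    intro t ht hm
    have h1 := Subgroup.orderOf_dvd_natCard C hm
    rw [Subgroup.orderOf_coe, Subgroup.orderOf_coe] at h1
    have h2 : orderOf t = 2 := orderOf_eq_prime (by rw [sq]; exact hsq t) ht
    rw [h2] at h1
    exact Nat.not_even_iff_odd.2 hodd (even_iff_two_dvd.2 h1)
  obtain ⟨u, hu⟩ : ∃ u : T, u ≠ 1 := by
    haveI : Nontrivial T := Finite.one_lt_card_iff_nontrivial.1 (by rw [hT]; norm_num)
    exact exists_ne 1
  obtain ⟨v, hv⟩ : ∃ v : T, v ≠ 1 ∧ v ≠ u := by
    by_contra hc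
    push Not at hc
    have hle : Nat.card T ≤ 2 := by
      rw [Nat.card_eq_fintype_card, ← Finset.card_univ]
      refine (Finset.card_le_card (t := {1, u}) fun x _ => ?_).trans Finset.card_le_two
      by_cases hx : x = 1
      · simp [hx]
      · simp [hc x hx]
    rw [hT] at hle
    norm_num at hle
  have huv : u * v ≠ 1 := fun e => hv.2 (by
    calc v = u * u * v := by rw [hsq u, one_mul]
      _ = u := by rw [mul_assoc, e, mul_one])
  have key : ∀ t : T, t ≠ 1 → ∀ a ∈ C, ((t : N) : G) * a * ((t : N) : G) = a⁻¹ := fun t ht =>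
    cc_inverts hC hodd (t : N).2 (hnot t ht) (by
      have := congrArg (fun x : T => ((x : N) : G)) (hsq t)
      simpa using this)
  obtain ⟨a, ha, ha1⟩ := cc_exists_ne_one h2
  refine hnot (u * v) huv ?_
  rw [← hC a ha ha1, Subgroup.mem_centralizer_singleton_iff]
  have e1 := key u hu _ (C.inv_mem ha)
  have e2 := key v hv.1 a ha
  rw [inv_inv] at e1
  have hu2 : ((u : N) : G) * ((u : N) : G) = 1 := by
    simpa using congrArg (fun x : T => ((x : N) : G)) (hsq u)
  have hv2 : ((v : N) : G) * ((v : N) : G) = 1 := by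
    simpa using congrArg (fun x : T => ((x : N) : G)) (hsq v)
  simp only [Subgroup.coe_mul]
  set x := ((u : N) : G)
  set y := ((v : N) : G)
  calc x * y * a = x * (y * a * y) * y := by simp only [mul_assoc, hv2, mul_one]
    _ = x * a⁻¹ * y := by rw [e2]
    _ = (x * a⁻¹ * x) * (x * y) := by
        rw [show x * a⁻¹ * x * (x * y) = x * a⁻¹ * (x * x) * y by simp only [mul_assoc], hu2, mul_one]
    _ = a * (x * y) := by rw [e1]

/-- The number of conjugates is one modulo the order. -/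
theorem cc_index_normalizer (hC : IsCC C) (h2 : 2 ≤ Nat.card C)
    (hcop : (Nat.card C).Coprime (C.relIndex (Subgroup.normalizer (C : Set G)))) :
    (Nat.card C : ℤ) ∣ ((Subgroup.normalizer (C : Set G)).index : ℤ) - 1 := by
  set N := Subgroup.normalizer (C : Set G) with hN
  have hfix : ∀ c : C, c ≠ 1 → MulAction.fixedBy (G ⧸ N) c = {((1 : G) : G ⧸ N)} := by
    intro c hc
    have hc' : (c : G) ≠ 1 := fun e => hc (Subtype.ext e)
    ext q
    induction q using QuotientGroup.induction_on with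
    | H g =>
      rw [MulAction.mem_fixedBy, Set.mem_singleton_iff]
      change ((((c : G) * g : G)) : G ⧸ N) = (g : G ⧸ N) ↔ (g : G ⧸ N) = ((1 : G) : G ⧸ N)
      rw [QuotientGroup.eq, QuotientGroup.eq]
      constructor
      · intro hm
        have hm' : g⁻¹ * (c : G)⁻¹ * g ∈ N := by simpa [mul_assoc] using hm
        have hord : (orderOf (g⁻¹ * (c : G)⁻¹ * g)).Coprime (C.relIndex N) := by
          refine Nat.Coprime.coprime_dvd_left ?_ hcop
          have e : g⁻¹ * (c : G)⁻¹ * g = MulAut.conj g⁻¹ (c : G)⁻¹ := by simp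
          rw [e, MulEquiv.orderOf_eq, orderOf_inv]
          exact Subgroup.orderOf_dvd_natCard C c.2
        have hmC := cc_mem_of_coprime hC hm' hord
        have := ti_of_centralizer C hC g⁻¹ _ (C.inv_mem c.2) (inv_ne_one.2 hc') (by simpa using hmC)
        simpa using this
      · intro hg
        have hg' : g ∈ N := by simpa using hg
        have := N.mul_mem (N.mul_mem (N.inv_mem hg') (N.inv_mem (Subgroup.le_normalizer c.2))) hg'
        simpa [mul_assoc] using this
  have key := MulAction.sum_card_fixedBy_eq_card_orbits_mul_card_group C (G ⧸ N)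
  rw [← Finset.add_sum_erase _ _ (Finset.mem_univ (1 : C))] at key
  have e1 : Fintype.card (MulAction.fixedBy (G ⧸ N) (1 : C)) = N.index := by
    rw [Subgroup.index_eq_card, ← Nat.card_eq_fintype_card]
    exact Nat.card_congr (Equiv.subtypeUnivEquiv fun x => one_smul _ x)
  have e2 : ∀ c ∈ (Finset.univ : Finset C).erase 1,
      Fintype.card (MulAction.fixedBy (G ⧸ N) c) = 1 := by
    intro c hc
    rw [← Nat.card_eq_fintype_card, hfix c (Finset.mem_erase.1 hc).1, Nat.card_unique]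
  rw [e1, Finset.sum_congr rfl e2, Finset.sum_const, Finset.card_erase_of_mem (Finset.mem_univ _),
    Finset.card_univ, smul_eq_mul, mul_one, ← Nat.card_eq_fintype_card (α := C),
    ← Nat.card_eq_fintype_card (α := MulAction.orbitRel.Quotient C (G ⧸ N))] at key
  refine ⟨(Nat.card (MulAction.orbitRel.Quotient C (G ⧸ N)) : ℤ) - 1, ?_⟩
  have hk := congrArg (fun n : ℕ => (n : ℤ)) key
  push_cast [Nat.cast_sub (show 1 ≤ Nat.card C by omega)] at hk
  linear_combination hk

/-- The classes meeting `C` outside `1`. -/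
noncomputable def ccClasses (C : Subgroup G) : Finset (ConjClasses G) :=
  (Finset.univ.filter fun g : G => g ∈ C ∧ g ≠ 1).image ConjClasses.mk

theorem ccClasses_mem {C : Subgroup G} {K : ConjClasses G} (hK : K ∈ ccClasses C) {g : G}
    (hg : ConjClasses.mk g = K) : g ∈ conjSet C := by
  obtain ⟨c, hc, rfl⟩ := Finset.mem_image.1 hK
  obtain ⟨w, hw⟩ := isConj_iff.1 (ConjClasses.mk_eq_mk_iff_isConj.1 hg.symm)
  exact ⟨w, c, (Finset.mem_filter.1 hc).2.1, (Finset.mem_filter.1 hc).2.2, hw⟩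

theorem ccClasses_card (hC : IsCC C) {e : ℕ}
    (h : C.relIndex (Subgroup.normalizer (C : Set G)) = e) :
    Nat.card C ≤ e * (ccClasses C).card + 1 := by
  set N := Subgroup.normalizer (C : Set G) with hN
  have hs : (Finset.univ.filter fun g : G => g ∈ C ∧ g ≠ 1).card + 1 = Nat.card C := by
    have e1 : (Finset.univ.filter fun g : G => g ∈ C ∧ g ≠ 1) =
        (Finset.univ.filter fun g : G => g ∈ C).erase 1 := by
      ext g; simp [and_comm]
    rw [e1, Finset.card_erase_add_one (by simp), ← Fintype.card_subtype, ← Nat.card_eq_fintype_card]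
  rw [← hs]
  refine Nat.add_le_add_right (Finset.card_le_mul_card_image _ e fun K hK => ?_) 1
  obtain ⟨c, hc, rfl⟩ := Finset.mem_image.1 hK
  obtain ⟨hcC, hc1⟩ := (Finset.mem_filter.1 hc).2
  rw [← h, Subgroup.relIndex, Subgroup.index_eq_card, Nat.card_eq_fintype_card, ← Finset.card_univ]
  refine (Finset.card_le_card (t := Finset.univ.image fun q : N ⧸ C.subgroupOf N =>
    ((q.out : N) : G) * c * ((q.out : N) : G)⁻¹) fun d hd => ?_).trans Finset.card_image_le
  rw [Finset.mem_filter, Finset.mem_filter] at hd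
  obtain ⟨w, hw⟩ := isConj_iff.1 (ConjClasses.mk_eq_mk_iff_isConj.1 hd.2.symm)
  have hwN : w ∈ N := ti_of_centralizer C hC w c hcC hc1 (hw ▸ hd.1.2.1)
  refine Finset.mem_image.2 ⟨((⟨w, hwN⟩ : N) : N ⧸ C.subgroupOf N), Finset.mem_univ _, ?_⟩
  obtain ⟨⟨m, hm⟩, hmm⟩ := QuotientGroup.mk_out_eq_mul (C.subgroupOf N) ⟨w, hwN⟩
  rw [hmm, Subgroup.coe_mul]
  have hcomm : ((m : N) : G) * c = c * ((m : N) : G) :=
    congrArg Subtype.val (hC.comm ⟨_, Subgroup.mem_subgroupOf.1 hm⟩ ⟨c, hcC⟩)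
  rw [← hw, mul_inv_rev, ← mul_assoc, mul_assoc w, hcomm, ← mul_assoc w c, mul_inv_cancel_right]

end Cfsg.Agent.Lib.SuzukiSystem68
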