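import Cfsg.Agent.Lib.SuzukiSystem68.Structure
import Cfsg.Agent.Lib.SuzukiSystem68.CC
import Cfsg.Agent.Lib.H80.ClassMult

/-!
# The column of a CC subgroup; the case of index two

Owner: helper68.
-/

set_option autoImplicit false
set_option linter.unusedSectionVars false

namespace Cfsg.Agent.Lib.SuzukiSystem68

open scoped ComplexConjugate Classical
open Cfsg.Agent.Lib.Characters.Basic Cfsg.Agent.Lib.SzDegrees
open Cfsg.Agent.Lib.SzTori (conjSet)

universe u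

variable {G : Type u} [Group G] [Fintype G]

/-- The degree. -/
noncomputable def dg (χ : Cfsg.IrrCharacter G) : ℕ := Cfsg.charDegree (χ : G → ℂ)

theorem dg_spec (χ : Cfsg.IrrCharacter G) : (χ : G → ℂ) 1 = (dg χ : ℂ) := (H80.ClassMult.deg_spec χ).2

theorem dg_pos (χ : Cfsg.IrrCharacter G) : 0 < dg χ := (H80.ClassMult.deg_spec χ).1

theorem dg_dvd (χ : Cfsg.IrrCharacter G) : dg χ ∣ Nat.card G := H80.ClassMult.charDegree_dvd_card χ

variable [Fintype (Cfsg.IrrCharacter G)] {C : Subgroup G}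

/-- The values of the irreducible characters on the non-trivial elements of `C`. -/
structure Col (C : Subgroup G) (e : ℕ) where
  k : ℕ
  ε : ℤ
  d : ℤ
  f : ℕ
  A : Finset (Cfsg.IrrCharacter G)
  dd : Cfsg.IrrCharacter G → ℤ
  eps : ε = 1 ∨ ε = -1
  card : A.card = k
  order : k * e + 1 = Nat.card C
  deg : ∀ χ ∈ A, (χ : G → ℂ) 1 = f
  cong : (Nat.card C : ℤ) ∣ (f : ℤ) - (d + ε * e)
  val : ∀ χ, χ ∉ A → ∀ c : C, c ≠ 1 → (χ : G → ℂ) (c : G) = dd χ
  valdeg : ∀ χ, χ ∉ A → (Nat.card C : ℤ) ∣ (dg χ : ℤ) - dd χ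
  nonconst : ∀ χ ∈ A, ∀ z : ℂ, ¬ ∀ c : C, c ≠ 1 → (χ : G → ℂ) (c : G) = z
  sep : ∀ χ ∈ A, ∀ χ' ∈ A,
    (∀ c : C, c ≠ 1 → (χ : G → ℂ) (c : G) = (χ' : G → ℂ) (c : G)) → χ = χ'
  agree : ∀ χ ∈ A, ∀ χ' ∈ A, ∀ g : G, g ∉ conjSet C → (χ : G → ℂ) g = (χ' : G → ℂ) g
  total : ∀ c : C, c ≠ 1 → ∑ χ ∈ A, (χ : G → ℂ) (c : G) = (k : ℂ) * d - ε
  sum : ∑ χ ∈ Finset.univ \ A, dd χ ^ 2 = e + 2 * ε * d - (k : ℤ) * d ^ 2

theorem exists_col (hC : IsCC C) {e : ℕ} (he0 : 0 < e) (h : C.relIndex (Subgroup.normalizer (C : Set G)) = e)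
    (h2 : 2 * e + 1 ≤ Nat.card C) : Nonempty (Col C e) := by
  have he := cc_orb_card hC h
  have hk := card_orbits_mul hC he
  obtain ⟨ε, d, f, A, dd, hε, hA, hdeg, hcong, hval, hnon, hsep, hag, htot, hsum⟩ :=
    exists_structure hC he (by
      by_contra hc
      have : ((Finset.univ.erase (1 : C →* ℂˣ)).image orb).card * e ≤ 1 * e :=
        Nat.mul_le_mul_right e (by omega)
      omega)
  refine ⟨⟨A.card, ε, d, f, A, dd, hε, rfl, by rw [hA, hk], hdeg, hcong, fun χ hχ => (hval χ hχ).1,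
    fun χ hχ => (hval χ hχ).2 _ (dg_spec χ), hnon, hsep, fun χ hχ χ' hχ' g hg => ?_, htot, ?_⟩⟩
  · by_cases h1 : g = 1
    · rw [h1, hdeg χ hχ, hdeg χ' hχ']
    · exact hag χ hχ χ' hχ' g h1 hg
  · convert hsum

variable {e : ℕ}

theorem Col.exists_c (X : Col C e) (he : 0 < e) (hk : 0 < X.k) : ∃ c : C, c ≠ 1 := by
  have h := X.order
  have : 0 < X.k * e := Nat.mul_pos hk he
  haveI : Nontrivial C := Finite.one_lt_card_iff_nontrivial.1 (by omega)
  exact exists_ne 1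

theorem Col.one_not_mem (X : Col C e) : oneChar G ∉ X.A := fun h =>
  X.nonconst _ h 1 fun c _ => oneChar_apply (c : G)

theorem Col.dd_one (X : Col C e) (he : 0 < e) (hk : 0 < X.k) : X.dd (oneChar G) = 1 := by
  obtain ⟨c, hc⟩ := X.exists_c he hk
  have h := X.val _ X.one_not_mem c hc
  rw [oneChar_apply] at h
  exact_mod_cast h.symm

/-- Orthogonality of the column with one outside the conjugates of `C`. -/
theorem Col.orth (X : Col C e) (he : 0 < e) (hk : 0 < X.k) {g : G} (hg : g ∉ conjSet C)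
    {χ₁ : Cfsg.IrrCharacter G} (h1 : χ₁ ∈ X.A) :
    ∑ χ ∈ Finset.univ \ X.A, (X.dd χ : ℂ) * (χ : G → ℂ) g +
      ((X.k : ℂ) * X.d - X.ε) * (χ₁ : G → ℂ) g = 0 := by
  obtain ⟨c, hc⟩ := X.exists_c he hk
  have hnc : ¬ IsConj (c : G) g := fun h => hg (by
    obtain ⟨w, hw⟩ := isConj_iff.1 h
    exact ⟨w, c, c.2, fun e1 => hc (Subtype.ext e1), hw⟩)
  have h := Characters.Complete.sum_irr_mul_conj g (c : G)
  rw [if_neg fun h => hnc h.symm, ← Finset.sum_sdiff (Finset.subset_univ X.A)] at h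
  rw [← h]
  congr 1
  · refine Finset.sum_congr rfl fun χ hχ => ?_
    rw [X.val χ (Finset.mem_sdiff.1 hχ).2 c hc, map_intCast, mul_comm]
  · have htot := congrArg (starRingEnd ℂ) (X.total c hc)
    rw [map_sum, map_sub, map_mul, map_natCast, map_intCast, map_intCast] at htot
    rw [← htot, Finset.sum_mul]
    exact Finset.sum_congr rfl fun χ hχ => by rw [X.agree χ hχ χ₁ h1 g hg, mul_comm]

/-- The column in the case of index two: `{1, st}` and the exceptional characters. -/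
structure First (C : Subgroup G) where
  col : Col C 2
  st : Cfsg.IrrCharacter G
  δ : ℤ
  hδ : δ = 1 ∨ δ = -1
  st_not : st ∉ col.A
  st_ne : st ≠ oneChar G
  dd_st : col.dd st = δ
  dd_zero : ∀ χ, χ ∉ col.A → χ ≠ oneChar G → χ ≠ st → col.dd χ = 0
  mu : (col.k : ℤ) * col.d - col.ε = -δ
  d_zero : 3 ≤ col.k → col.d = 0
  val : ∀ χ ∈ col.A, ∀ g ∉ conjSet C, (χ : G → ℂ) g = δ + (st : G → ℂ) g
  deg_f : (col.f : ℤ) = dg st + δ

theorem exists_first (X : Col C 2) (hk : 2 ≤ X.k) : Nonempty (First C) := by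
  have h1 : oneChar G ∈ Finset.univ \ X.A := Finset.mem_sdiff.2 ⟨Finset.mem_univ _, X.one_not_mem⟩
  have hsum := X.sum
  rw [← Finset.add_sum_erase _ _ h1, X.dd_one (by norm_num) (by omega)] at hsum
  push_cast at hsum
  set R := (Finset.univ \ X.A).erase (oneChar G) with hR
  have hnn : 0 ≤ ∑ χ ∈ R, X.dd χ ^ 2 := Finset.sum_nonneg fun _ _ => sq_nonneg _
  have hk' : (2 : ℤ) ≤ X.k := by exact_mod_cast hk
  have hd : X.ε * X.d = 0 ∨ X.ε * X.d = 1 := by
    have hsq : X.d ^ 2 = (X.ε * X.d) ^ 2 := by rcases X.eps with h | h <;> rw [h] <;> ring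
    rw [hsq] at hsum
    have h3 : (X.k : ℤ) * (X.ε * X.d) ^ 2 ≤ 1 + 2 * (X.ε * X.d) := by nlinarith
    have h4 : 2 * (X.ε * X.d) ^ 2 ≤ (X.k : ℤ) * (X.ε * X.d) ^ 2 :=
      mul_le_mul_of_nonneg_right hk' (sq_nonneg _)
    rcases le_or_gt 0 (X.ε * X.d) with h5 | h5
    · have : X.ε * X.d ≤ 1 := by nlinarith
      omega
    · nlinarith
  have hXd : X.d = X.ε * (X.ε * X.d) := by rcases X.eps with h | h <;> rw [h] <;> ring
  have hε2 : X.ε * X.ε = 1 := by rcases X.eps with h | h <;> rw [h] <;> norm_num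
  obtain ⟨c, hc⟩ := X.exists_c (by norm_num) (show 0 < X.k by omega)
  obtain ⟨χ₁, hχ₁⟩ := Finset.card_pos.1 (show 0 < X.A.card by rw [X.card]; omega)
  have hout1 : (1 : G) ∉ conjSet C := by
    rintro ⟨g, d, -, hd1, hgd⟩
    exact hd1 (conj_eq_one_iff.1 hgd)
  have horth : ∀ g ∉ conjSet C, 1 + ∑ χ ∈ R, (X.dd χ : ℂ) * (χ : G → ℂ) g +
      ((X.k : ℂ) * X.d - X.ε) * (χ₁ : G → ℂ) g = 0 := by
    intro g hg
    have h := X.orth (by norm_num) (show 0 < X.k by omega) hg hχ₁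
    rw [← Finset.add_sum_erase _ _ h1, X.dd_one (by norm_num) (show 0 < X.k by omega),
      oneChar_apply, ← hR] at h
    simpa using h
  -- exactly one further character
  have hone : ∑ χ ∈ R, X.dd χ ^ 2 = 1 ∧
      ((X.k : ℤ) * X.d - X.ε = X.ε ∨ (X.k : ℤ) * X.d - X.ε = -X.ε) ∧ (3 ≤ X.k → X.d = 0) := by
    rcases hd with h0 | h1'
    · have hd0 : X.d = 0 := by rw [hXd, h0, mul_zero]
      rw [hd0] at hsum ⊢
      exact ⟨by linarith, Or.inr (by ring), fun _ => rfl⟩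
    · have hde : X.d = X.ε := by rw [hXd, h1', mul_one]
      rw [hde, show (X.ε : ℤ) ^ 2 = 1 by rw [sq, hε2]] at hsum
      have hk3 : X.k ≤ 3 := by
        have : (X.k : ℤ) ≤ 3 := by nlinarith
        exact_mod_cast this
      have hkk : X.k = 2 ∨ X.k = 3 := by omega
      rcases hkk with hkk | hkk
      · rw [hkk] at hsum
        refine ⟨by push_cast at hsum; nlinarith [hε2], Or.inl ?_, fun h => absurd h (by omega)⟩
        rw [hkk, hde]; push_cast; ring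
      · exfalso
        rw [hkk] at hsum
        have h0 : ∑ χ ∈ R, X.dd χ ^ 2 = 0 := by push_cast at hsum; nlinarith
        have hz := (Finset.sum_eq_zero_iff_of_nonneg fun χ _ => sq_nonneg (X.dd χ)).1 h0
        have h := horth 1 hout1
        rw [Finset.sum_eq_zero fun χ hχ => by rw [pow_eq_zero_iff two_ne_zero |>.1 (hz χ hχ)]; simp,
          X.deg χ₁ hχ₁, hde, hkk] at h
        have h' : (((1 : ℤ) + 2 * X.ε * X.f : ℤ) : ℂ) = ((0 : ℤ) : ℂ) := by
          push_cast at h ⊢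
          linear_combination h
        have h'' : (1 : ℤ) + 2 * X.ε * X.f = 0 := by exact_mod_cast h'
        rcases X.eps with he | he <;> rw [he] at h'' <;> omega
  obtain ⟨hone, hmu, hd0⟩ := hone
  obtain ⟨st, hst, hst0⟩ : ∃ st ∈ R, X.dd st ≠ 0 := by
    by_contra hcon
    push Not at hcon
    rw [Finset.sum_eq_zero fun χ hχ => by rw [hcon χ hχ]; ring] at hone
    exact zero_ne_one hone
  rw [← Finset.add_sum_erase _ _ hst] at hone
  have hnn' : 0 ≤ ∑ χ ∈ R.erase st, X.dd χ ^ 2 := Finset.sum_nonneg fun _ _ => sq_nonneg _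
  have hst2 : X.dd st ^ 2 = 1 := by
    have : 0 < X.dd st ^ 2 := by positivity
    omega
  have hδ : X.dd st = 1 ∨ X.dd st = -1 := sq_eq_one_iff.1 hst2
  have hzero : ∀ χ ∈ R.erase st, X.dd χ = 0 := fun χ hχ => pow_eq_zero_iff two_ne_zero |>.1
    ((Finset.sum_eq_zero_iff_of_nonneg fun χ _ => sq_nonneg (X.dd χ)).1 (by omega) χ hχ)
  have horth' : ∀ g ∉ conjSet C, 1 + (X.dd st : ℂ) * (st : G → ℂ) g +
      ((X.k : ℂ) * X.d - X.ε) * (χ₁ : G → ℂ) g = 0 := by
    intro g hg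
    have h := horth g hg
    rw [← Finset.add_sum_erase _ _ hst, Finset.sum_eq_zero (s := R.erase st) fun χ hχ => by
      rw [hzero χ hχ]; simp, add_zero] at h
    exact h
  have hμ : (X.k : ℤ) * X.d - X.ε = -X.dd st := by
    have h := horth' 1 hout1
    rw [dg_spec, X.deg χ₁ hχ₁] at h
    have h' : (1 : ℤ) + X.dd st * dg st + ((X.k : ℤ) * X.d - X.ε) * X.f = 0 := by
      have : (((1 : ℤ) + X.dd st * dg st + ((X.k : ℤ) * X.d - X.ε) * X.f : ℤ) : ℂ) =
          ((0 : ℤ) : ℂ) := by push_cast; linear_combination h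
      exact_mod_cast this
    have hD : (1 : ℤ) ≤ dg st := by exact_mod_cast dg_pos st
    have hf1 : (1 : ℤ) ≤ X.f := by
      have hf := X.deg χ₁ hχ₁
      rw [dg_spec, Nat.cast_inj] at hf
      rw [← hf]; exact_mod_cast dg_pos χ₁
    rcases hδ with e1 | e1 <;> rcases hmu with e2 | e2 <;> rcases X.eps with e3 | e3 <;>
      rw [e1, e2, e3] at h' <;> rw [e1, e2, e3] <;> omega
  have hval : ∀ χ ∈ X.A, ∀ g ∉ conjSet C,
      (χ : G → ℂ) g = (X.dd st : ℂ) + (st : G → ℂ) g := by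
    intro χ hχ g hg
    have h := horth' g hg
    rw [show (X.k : ℂ) * X.d - X.ε = ((-X.dd st : ℤ) : ℂ) by rw [← hμ]; push_cast; rfl] at h
    have hs2 : (X.dd st : ℂ) * X.dd st = 1 := by rw [← Int.cast_mul, ← sq, hst2, Int.cast_one]
    rw [X.agree χ hχ χ₁ hχ₁ g hg]
    push_cast at h
    linear_combination (-(X.dd st : ℂ)) * h + ((st : G → ℂ) g - (χ₁ : G → ℂ) g) * hs2
  have hstR := Finset.mem_erase.1 hst
  refine ⟨⟨X, st, X.dd st, hδ, (Finset.mem_sdiff.1 hstR.2).2, hstR.1, rfl, fun χ hA h1 h2 =>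
    hzero χ (Finset.mem_erase.2 ⟨h2, Finset.mem_erase.2 ⟨h1, Finset.mem_sdiff.2
      ⟨Finset.mem_univ _, hA⟩⟩⟩), hμ, hd0, hval, ?_⟩⟩
  have h := hval χ₁ hχ₁ 1 hout1
  rw [X.deg χ₁ hχ₁, dg_spec] at h
  have : ((X.f : ℤ) : ℂ) = (((dg st : ℤ) + X.dd st : ℤ) : ℂ) := by push_cast; linear_combination h
  exact_mod_cast this

omit [Fintype (Cfsg.IrrCharacter G)] in
/-- The value at an involution is an integer of the parity of the degree. -/
theorem apply_involution (χ : Cfsg.IrrCharacter G) {z : G} (hz : orderOf z = 2) :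
    ∃ s : ℤ, (χ : G → ℂ) z = s ∧ (2 : ℤ) ∣ (dg χ : ℤ) + s := by
  obtain ⟨n, hn⟩ := H80.ClassMult.exists_sum_subgroup χ (Subgroup.zpowers z)
  rw [Nat.card_zpowers, hz] at hn
  have hsum : ∑ u : Subgroup.zpowers z, (χ : G → ℂ) u = (χ : G → ℂ) 1 + (χ : G → ℂ) z := by
    have hz1 : z ≠ 1 := fun e => by rw [e, orderOf_one] at hz; norm_num at hz
    have hne : (1 : Subgroup.zpowers z) ≠ ⟨z, Subgroup.mem_zpowers z⟩ := fun e =>
      hz1 (congrArg Subtype.val e).symm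
    have huniv : (Finset.univ : Finset (Subgroup.zpowers z)) =
        {1, ⟨z, Subgroup.mem_zpowers z⟩} := by
      symm
      apply Finset.eq_univ_of_card
      rw [Finset.card_pair hne, ← Nat.card_eq_fintype_card, Nat.card_zpowers, hz]
    rw [huniv, Finset.sum_pair hne, OneMemClass.coe_one]
  rw [hsum, dg_spec] at hn
  refine ⟨2 * n - dg χ, ?_, ⟨n, by ring⟩⟩
  push_cast at hn ⊢
  linear_combination hn

omit [Fintype (Cfsg.IrrCharacter G)] in
theorem card_conj_eq (x u : G) (h : IsConj x u) :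
    (Finset.univ.filter fun g : G => g * x * g⁻¹ = u).card =
      Nat.card (Subgroup.centralizer ({x} : Set G)) := by
  obtain ⟨w, hw⟩ := isConj_iff.1 h
  rw [Nat.card_eq_fintype_card, ← Finset.card_univ]
  symm
  refine Finset.card_bij (fun (c : Subgroup.centralizer ({x} : Set G)) _ => w * (c : G))
    (fun c _ => ?_) (fun a _ b _ e => Subtype.ext (mul_left_cancel e)) fun g hg => ?_
  · have hc := Subgroup.mem_centralizer_singleton_iff.1 c.2
    rw [Finset.mem_filter]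
    refine ⟨Finset.mem_univ _, ?_⟩
    rw [← hw, mul_inv_rev, ← mul_assoc, mul_assoc w, hc, ← mul_assoc, mul_inv_cancel_right]
  · rw [Finset.mem_filter] at hg
    refine ⟨⟨w⁻¹ * g, Subgroup.mem_centralizer_singleton_iff.2 ?_⟩, Finset.mem_univ _, by simp⟩
    have e := hw.trans hg.2.symm
    calc w⁻¹ * g * x = w⁻¹ * (g * x * g⁻¹) * g := by group
      _ = x * (w⁻¹ * g) := by rw [← e]; group

/-- The class multiplication formula, counting pairs. -/
theorem class_product (x y a : G) :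
    (Nat.card G : ℂ) * (((Finset.univ ×ˢ Finset.univ).filter fun p : G × G =>
      p.1 * x * p.1⁻¹ * (p.2 * y * p.2⁻¹) = a).card : ℂ) =
    ∑ χ : Cfsg.IrrCharacter G, (Nat.card G : ℂ) ^ 2 * (χ : G → ℂ) a⁻¹ * (χ : G → ℂ) x *
      (χ : G → ℂ) y / (χ : G → ℂ) 1 := by
  have h2 : ∀ (χ : Cfsg.IrrCharacter G),
      ∑ p ∈ (Finset.univ ×ˢ Finset.univ : Finset (G × G)),
        (χ : G → ℂ) 1 * (χ : G → ℂ) (p.1 * x * p.1⁻¹ * (p.2 * y * p.2⁻¹) * a⁻¹) =
      (Nat.card G : ℂ) ^ 2 * (χ : G → ℂ) a⁻¹ * (χ : G → ℂ) x * (χ : G → ℂ) y / (χ : G → ℂ) 1 := by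
    intro χ
    have h1 := apply_one_ne_zero χ
    have hcyc : ∀ u v : G, (χ : G → ℂ) (u * v) = (χ : G → ℂ) (v * u) := fun u v => by
      have := isClassFunction_irr χ (u * v) v
      simpa [mul_assoc] using this.symm
    rw [Finset.sum_product, Finset.sum_congr rfl (g := fun g => ((Nat.card G : ℂ) * (χ : G → ℂ) y) *
      (χ : G → ℂ) (a⁻¹ * (g * x * g⁻¹))) fun g _ => ?_]
    · rw [← Finset.mul_sum, H80.ClassMult.sum_apply_mul_conj]
      ring
    · rw [← Finset.mul_sum, Finset.sum_congr rfl fun h _ =>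
        show (χ : G → ℂ) (g * x * g⁻¹ * (h * y * h⁻¹) * a⁻¹) =
          (χ : G → ℂ) (a⁻¹ * (g * x * g⁻¹) * (h * y * h⁻¹)) by rw [hcyc, ← mul_assoc],
        H80.ClassMult.sum_apply_mul_conj, mul_div_cancel₀ _ h1]
      ring
  rw [← Finset.sum_congr rfl fun χ _ => h2 χ, Finset.sum_comm, Finset.card_filter, Nat.cast_sum,
    Finset.mul_sum]
  refine Finset.sum_congr rfl fun p _ => ?_
  rw [Characters.Complete.sum_degree_mul_apply]
  by_cases h : p.1 * x * p.1⁻¹ * (p.2 * y * p.2⁻¹) = a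
  · rw [if_pos h, if_pos (mul_inv_eq_one.2 h)]; simp
  · rw [if_neg h, if_neg fun e => h (mul_inv_eq_one.1 e)]; simp

end Cfsg.Agent.Lib.SuzukiSystem68
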