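import Cfsg.Agent.Lib.SuzukiSystem68.Columns
import Cfsg.Agent.Lib.SuzukiSystem68.Arith
import Cfsg.Agent.Lib.Characters.DefectZero

/-!
# Class counting: the centraliser of an involution is a 2-group

Owner: helper68.
-/

set_option autoImplicit false
set_option linter.unusedSectionVars false

namespace Cfsg.Agent.Lib.SuzukiSystem68

open scoped ComplexConjugate Classical
open Cfsg.Agent.Lib.Characters.Basic Cfsg.Agent.Lib.SzDegrees
open Cfsg.Agent.Lib.SzTori (conjSet)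

universe u

variable {G : Type u} [Group G] [Fintype G] [Fintype (Cfsg.IrrCharacter G)] [IsSimpleGroup G]
  {S : Sys244 G} (K : Cols S)

namespace Cols

theorem two_le_n₁ : 2 ≤ S.n₁ := by have := S.nine_le₁; omega

/-- The arithmetic of the degrees, before the class count. -/
theorem degree_data : ∃ κ τ : ℕ, 1 ≤ κ ∧ 1 ≤ τ ∧ K.I.F.col.f = κ * (S.n₂ * S.n₃) ∧
    S.m = κ * K.I.D * τ ^ 2 ∧ (S.n₁ : ℤ) ∣ (τ : ℤ) ^ 2 - 1 ∧
    ∃ d : ℕ, (d : ℤ) = (K.I.D : ℤ) - K.I.s ∧ K.I.c = τ * d := by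
  have hn : 9 ≤ S.n₁ := S.nine_le₁
  have hn' : (9 : ℤ) ≤ S.n₁ := by exact_mod_cast hn
  obtain ⟨κ, hκ⟩ := K.P_dvd_f
  rw [mul_comm] at hκ
  obtain ⟨q, hq⟩ : (S.n₁ : ℤ) ∣ (K.I.D : ℤ) - K.I.F.δ := K.I.D_cong
  have hfe := K.I.f_eq
  have hδ2 : K.I.F.δ * K.I.F.δ = 1 := by rcases K.I.F.hδ with e | e <;> rw [e] <;> norm_num
  -- `D` is prime to the orders
  have hD₁ : K.I.D.Coprime S.n₁ := by
    rw [← Nat.isCoprime_iff_coprime]
    exact ⟨K.I.F.δ, -K.I.F.δ * q, by linear_combination K.I.F.δ * hq + hδ2⟩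
  have hfD : K.I.F.col.f.Coprime K.I.D := by
    rw [← Nat.isCoprime_iff_coprime]
    exact ⟨K.I.F.δ, -K.I.F.δ, by linear_combination K.I.F.δ * hfe + hδ2⟩
  have hDP : K.I.D.Coprime (S.n₂ * S.n₃) := (hfD.coprime_dvd_left ⟨κ, by rw [hκ]; ring⟩).symm
  have hDm : K.I.D ∣ S.m := by
    refine Nat.Coprime.dvd_of_dvd_mul_left (k := K.I.D) ?_ (S.card_eq ▸ S.D_dvd K.I)
    rw [Sys244.N, mul_assoc]
    exact Nat.Coprime.mul_right hD₁ hDP
  have hκ1 : κ.Coprime S.n₁ := by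
    obtain ⟨t, ht⟩ : Odd (S.n₁ : ℤ) := by exact_mod_cast S.odd₁
    have hf1 : K.I.F.col.f.Coprime S.n₁ := by
      rw [← Nat.isCoprime_iff_coprime]
      exact ⟨-(t : ℤ) * K.I.F.δ, 1 + t * K.I.F.δ * q,
        by linear_combination (-(t : ℤ) * K.I.F.δ) * hfe + (-(t : ℤ) * K.I.F.δ) * hq +
          ht - 2 * (t : ℤ) * hδ2⟩
    exact hf1.coprime_dvd_left ⟨_, hκ⟩
  have hκm : κ ∣ S.m := by
    have h := S.card_eq ▸ S.f_dvd K.I
    rw [hκ, Sys244.N, show S.n₁ * S.n₂ * S.n₃ * S.m = S.n₂ * S.n₃ * (S.n₁ * S.m) by ring,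
      mul_comm κ] at h
    exact hκ1.dvd_of_dvd_mul_left (Nat.dvd_of_mul_dvd_mul_left (by have := S.P_ge; omega) h)
  obtain ⟨u, hu⟩ := Nat.Coprime.mul_dvd_of_dvd_of_dvd
    ((hfD.coprime_dvd_left ⟨_, hκ⟩)) hκm hDm
  -- the number of conjugates
  obtain ⟨w, hw⟩ := cc_index_normalizer S.hC₁ (show 2 ≤ Nat.card S.A₁ from two_le_n₁) (by
    rw [S.h₁]; exact Nat.coprime_two_right.2 S.odd₁)
  have hidx : 2 * (Subgroup.normalizer (S.A₁ : Set G)).index = S.n₂ * S.n₃ * S.m := by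
    have h := (Subgroup.normalizer (S.A₁ : Set G)).card_mul_index
    rw [cc_card_normalizer S.h₁, S.card_eq] at h
    refine Nat.eq_of_mul_eq_mul_left (show 0 < S.n₁ by omega) ?_
    simp only [Sys244.N, Sys244.n₁, Sys244.n₂, Sys244.n₃] at h ⊢
    linarith [h]
  have hu1 : (S.n₁ : ℤ) ∣ (u : ℤ) - 1 := by
    have hi : 2 * ((Subgroup.normalizer (S.A₁ : Set G)).index : ℤ) =
        (S.n₂ : ℤ) * S.n₃ * (κ * K.I.D * u) := by
      have : ((2 * (Subgroup.normalizer (S.A₁ : Set G)).index : ℕ) : ℤ) =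
          ((S.n₂ * S.n₃ * (κ * K.I.D * u) : ℕ) : ℤ) := by rw [hidx, hu]
      push_cast at this; exact this
    have hfz : (K.I.F.col.f : ℤ) = (κ : ℤ) * ((S.n₂ : ℤ) * S.n₃) := by exact_mod_cast hκ
    have h2 : (S.n₁ : ℤ) ∣ 2 * ((u : ℤ) - 1) := by
      refine ⟨2 * w - q * (3 * K.I.F.δ + S.n₁ * q) * u, ?_⟩
      have hw' : ((Subgroup.normalizer (S.A₁ : Set G)).index : ℤ) - 1 = (S.n₁ : ℤ) * w := hw
      linear_combination 2 * hw' - hi + (u : ℤ) * K.I.D * hfz - (u : ℤ) * K.I.D * hfe -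
        (u : ℤ) * ((K.I.D : ℤ) + 2 * K.I.F.δ + S.n₁ * q) * hq - 2 * (u : ℤ) * hδ2
    exact (Nat.isCoprime_iff_coprime.2 (Nat.coprime_two_right.2 S.odd₁) :
      IsCoprime (S.n₁ : ℤ) 2).dvd_of_dvd_mul_left h2
  -- the formula
  have hds : (0 : ℤ) < (K.I.D : ℤ) - K.I.s := by
    have h1 : (S.n₁ : ℤ) * K.I.s ≤ K.I.D + ((S.n₁ : ℤ) - 1) * K.I.F.δ := le_trans
      (mul_le_mul_of_nonneg_left (le_abs_self _) (by positivity)) K.I.normalizer_bound
    have h2 := K.I.s_ne_D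
    have h3 : (1 : ℤ) ≤ K.I.D := by exact_mod_cast K.I.D_pos
    have h4 : ((S.n₁ : ℤ) - 1) * K.I.F.δ ≤ ((S.n₁ : ℤ) - 1) * 1 :=
      mul_le_mul_of_nonneg_left (by rcases K.I.F.hδ with e | e <;> omega) (by omega)
    by_contra hc
    have h5 : (S.n₁ : ℤ) * ((K.I.D : ℤ) + 1) ≤ (S.n₁ : ℤ) * K.I.s :=
      mul_le_mul_of_nonneg_left (by omega) (by positivity)
    nlinarith
  obtain ⟨d, hd⟩ : ∃ d : ℕ, (d : ℤ) = (K.I.D : ℤ) - K.I.s := ⟨_, Int.toNat_of_nonneg hds.le⟩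
  have hκ0 : 1 ≤ κ := by
    rcases Nat.eq_zero_or_pos κ with rfl | h
    · have := K.I.f_pos; rw [hκ] at this; simp at this
    · exact h
  have hc2 : K.I.c ^ 2 = u * d ^ 2 := by
    have h := K.I.formula
    rw [S.card_eq, ← hd, hu, hκ, show Nat.card S.A₁ = S.n₁ from rfl] at h
    simp only [Sys244.N] at h
    push_cast at h
    have h0 : (0 : ℤ) < (S.n₁ : ℤ) * ((κ : ℤ) * ((S.n₂ : ℤ) * S.n₃)) * K.I.D := by
      have hP := S.P_ge
      have hP' : (0 : ℤ) < (S.n₂ : ℤ) * S.n₃ := by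
        have : (0 : ℕ) < S.n₂ * S.n₃ := by omega
        exact_mod_cast this
      exact mul_pos (mul_pos (by omega) (mul_pos (by omega) hP')) (by exact_mod_cast K.I.D_pos)
    have : (S.n₁ : ℤ) * ((κ : ℤ) * ((S.n₂ : ℤ) * S.n₃)) * K.I.D * ((K.I.c ^ 2 : ℕ) : ℤ) =
        (S.n₁ : ℤ) * ((κ : ℤ) * ((S.n₂ : ℤ) * S.n₃)) * K.I.D * ((u * d ^ 2 : ℕ) : ℤ) := by
      push_cast; linear_combination h
    exact Int.natCast_inj.1 (mul_left_cancel₀ h0.ne' this)
  obtain ⟨τ, hτ⟩ := (Nat.pow_dvd_pow_iff two_ne_zero).1 (Dvd.intro_left _ hc2.symm : d ^ 2 ∣ K.I.c ^ 2)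
  have hd0 : 0 < d := by omega
  have hu2 : u = τ ^ 2 := by
    rw [hτ, mul_pow, mul_comm u] at hc2
    exact (Nat.eq_of_mul_eq_mul_left (pow_pos hd0 2) hc2).symm
  have hτ0 : 1 ≤ τ := by
    rcases Nat.eq_zero_or_pos τ with rfl | h
    · have : 0 < K.I.c := Nat.card_pos
      rw [hτ, mul_zero] at this; omega
    · exact h
  refine ⟨κ, τ, hκ0, hτ0, hκ, ?_, ?_, d, hd, by rw [hτ, mul_comm]⟩
  · rw [hu, hu2]
  · rw [hu2] at hu1; exact_mod_cast hu1

/-- The bound on the norm. -/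
theorem norm' : ((S.n₁ : ℤ) - 1) * (1 + K.I.F.δ * K.I.s) ^ 2 + 2 * K.I.s ^ 2 + 2 ≤
    2 * (K.I.c : ℤ) := by
  have h := K.I.norm_bound
  have hk : (K.I.F.col.k : ℤ) * 2 + 1 = S.n₁ := by
    have h := K.I.F.col.order
    simp only [Sys244.n₁]
    exact_mod_cast h
  have e : (1 + K.I.F.δ * K.I.s) ^ 2 = (K.I.F.δ + K.I.s) ^ 2 := by
    rcases K.I.F.hδ with e | e <;> rw [e] <;> ring
  rw [e, ← hk]
  linarith

/-- The data of the degrees. -/
theorem degree_data' : ∃ κ : ℕ, 1 ≤ κ ∧ K.I.F.col.f = κ * (S.n₂ * S.n₃) ∧ S.m = κ * K.I.D ∧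
    (K.I.c : ℤ) = (K.I.D : ℤ) - K.I.s ∧ K.R₀.card ≤ 1 ∧ (κ = 1 → K.R₀.card = 0) ∧
    (κ : ℤ) * ((κ : ℤ) * (S.n₂ * S.n₃ : ℕ) - K.I.F.δ) ≤ 3 * S.n₁ * (S.n₂ * S.n₃ : ℕ) := by
  obtain ⟨κ, τ, hκ, hτ, hf, hm, hu, d, hd, hc⟩ := K.degree_data
  have hn : 9 ≤ S.n₁ := S.nine_le₁
  have hP := S.P_ge
  have hD : (K.I.D : ℤ) = (κ : ℤ) * (S.n₂ * S.n₃ : ℕ) - K.I.F.δ := by
    have h := K.I.f_eq
    rw [hf, Nat.cast_mul] at h
    linarith
  have hle : (κ : ℤ) * (τ : ℤ) ^ 2 * K.I.D ≤ 3 * S.n₁ * (S.n₂ * S.n₃ : ℕ) := by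
    have h := S.m_le
    rw [hm, Sys244.N] at h
    have h' : ((κ * K.I.D * τ ^ 2 : ℕ) : ℤ) ≤ ((3 * (S.n₁ * S.n₂ * S.n₃) : ℕ) : ℤ) := by
      exact_mod_cast h
    push_cast at h' ⊢
    linarith
  have hτ1 : τ = 1 := by
    rcases u_cases hn S.odd₁ hP hκ K.I.F.hδ hD hτ hu hle with h | ⟨hκ1, hτe, j, hj, hτj⟩
    · exact h
    exfalso
    subst hκ1
    obtain ⟨o, ho⟩ := S.c_dvd K.I
    have hc0 : 0 < K.I.c := Nat.card_pos
    have hodd : Odd o := by
      have h := S.c_odd_part K.I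
      rw [ho, Nat.mul_div_cancel_left o hc0] at h
      exact Nat.odd_iff.2 (by omega)
    have hdo : d * o = τ * ((K.I.D : ℤ)).natAbs := by
      rw [Int.natAbs_natCast]
      have h1 : τ * (d * o) = τ * (τ * K.I.D) := by
        have := hm.symm.trans ho
        rw [hc] at this
        linarith
      exact Nat.eq_of_mul_eq_mul_left hτ h1
    have hnorm := K.norm'
    rw [hc] at hnorm
    push_cast at hnorm
    exact even_false hn hP K.I.F.hδ (by rw [hD, Nat.cast_one, one_mul]) hτe hj hτj hd K.I.D_cong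
      hnorm hodd hdo rfl
  subst hτ1
  rw [one_pow, mul_one] at hm
  rw [one_mul] at hc
  have hup : (κ : ℤ) * ((κ : ℤ) * (S.n₂ * S.n₃ : ℕ) - K.I.F.δ) ≤ 3 * S.n₁ * (S.n₂ * S.n₃ : ℕ) := by
    rw [← hD]; simpa using hle
  -- the further characters
  have hR : S.N ^ 2 * K.R₀.card + (1 + K.I.D * K.I.D + K.I.F.col.k * (K.I.F.col.f * K.I.F.col.f)) ≤
      S.N * S.m := by
    rw [← S.card_eq]
    have hdis : Disjoint K.R₀ K.I.F.col.A := Finset.disjoint_left.2 fun χ hχ =>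
      (K.mem_rest.1 (Finset.mem_filter.1 hχ).1).2.2.1
    refine le_trans ?_ (S.degree_bound K.I K.R₀
      (fun h => (K.mem_rest.1 (Finset.mem_filter.1 h).1).2.1 rfl)
      (fun h => (K.mem_rest.1 (Finset.mem_filter.1 h).1).1 rfl) hdis)
    rw [add_comm (1 + _ + _)]
    refine Nat.add_le_add_right ?_ _
    rw [mul_comm, ← smul_eq_mul, ← Finset.sum_const]
    exact Finset.sum_le_sum fun χ hχ =>
      Nat.pow_le_pow_left (Nat.le_of_dvd (dg_pos χ) (K.R₀_dvd hχ)) 2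
  have hR' : (S.N : ℤ) ^ 2 * K.R₀.card + (1 + (K.I.D : ℤ) * K.I.D +
      (K.I.F.col.k : ℤ) * ((K.I.F.col.f : ℤ) * K.I.F.col.f)) ≤ (S.N : ℤ) * S.m := by
    exact_mod_cast hR
  have hk : (K.I.F.col.k : ℤ) * 2 + 1 = S.n₁ := by
    have h := K.I.F.col.order
    simp only [Sys244.n₁]
    exact_mod_cast h
  obtain ⟨n, hnn⟩ : ∃ n : ℕ, n = S.n₁ := ⟨_, rfl⟩
  obtain ⟨P, hPP⟩ : ∃ P : ℕ, P = S.n₂ * S.n₃ := ⟨_, rfl⟩
  have hN : (S.N : ℤ) = (n : ℤ) * P := by rw [hnn, hPP, Sys244.N]; push_cast; ring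
  rw [← hPP] at hf hD hup hP
  rw [← hnn] at hk hn
  rw [hN, hm, hf] at hR'
  push_cast at hR'
  rw [← hnn] at hup
  have hκ' : (1 : ℤ) ≤ κ := by exact_mod_cast hκ
  have hn' : (9 : ℤ) ≤ n := by exact_mod_cast hn
  have hP' : (117 : ℤ) ≤ P := by exact_mod_cast hP
  have hr2 : K.R₀.card ≤ 2 := by
    have h1 : S.N * (S.N * K.R₀.card) < S.N * (S.N * 3) := by
      have h2 := Nat.mul_le_mul_left S.N S.m_le
      linarith [sq S.N, Nat.zero_le (K.I.D * K.I.D),
        Nat.zero_le (K.I.F.col.k * (K.I.F.col.f * K.I.F.col.f))]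
    have := Nat.lt_of_mul_lt_mul_left (Nat.lt_of_mul_lt_mul_left h1)
    omega
  have hr1 : K.R₀.card ≤ 1 := by
    by_contra hc1
    have hr : K.R₀.card = 2 := by omega
    rw [hr] at hR'
    push_cast at hR'
    refine r_two_false (n := n) (P := P) (κ := κ) hn hP ?_ ?_
    · rcases K.I.F.hδ with e | e <;> rw [e] at hup <;> nlinarith
    · rw [hD] at hR'
      refine le_of_mul_le_mul_left ?_ (show (0 : ℤ) < P by linarith)
      have hkk : 2 * (K.I.F.col.k : ℤ) = n - 1 := by linarith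
      rcases K.I.F.hδ with e | e <;> rw [e] at hR' <;>
        nlinarith [mul_le_mul_of_nonneg_left hκ' (show (0 : ℤ) ≤ (κ : ℤ) * P by positivity),
          mul_nonneg (mul_nonneg (show (0 : ℤ) ≤ (n : ℤ) by linarith) (sq_nonneg ((κ : ℤ) * P)))
            zero_le_one]
  refine ⟨κ, hκ, hPP ▸ hf, hm, by rw [hc]; exact hd, hr1, fun h1 => ?_, by rw [← hPP, ← hnn]; exact hup⟩
  subst h1
  rcases Nat.eq_zero_or_pos K.R₀.card with h | h
  · exact h
  exfalso
  have h' : (1 : ℤ) ≤ K.R₀.card := by exact_mod_cast h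
  rw [hD] at hR'
  have h3 : ((n : ℤ) * P) ^ 2 ≤ ((n : ℤ) * P) ^ 2 * K.R₀.card :=
    le_mul_of_one_le_right (sq_nonneg _) h'
  rcases K.I.F.hδ with e | e <;> rw [e] at hR' <;> push_cast at hR' <;>
    nlinarith [mul_le_mul_of_nonneg_left (show (P : ℤ) + 2 ≤ (n : ℤ) * P by nlinarith)
        (show (0 : ℤ) ≤ (n : ℤ) * P by positivity), sq_nonneg ((K.I.D : ℤ)), sq_nonneg (P : ℤ),
      mul_nonneg (Int.natCast_nonneg K.I.F.col.k) (sq_nonneg (P : ℤ))]

/-- Elements of different orders prime to the three orders give further classes. -/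
theorem order_count (O : Finset ℕ) (hex : ∀ o ∈ O, ∃ x : G, orderOf x = o)
    (hcop : ∀ o ∈ O, o.Coprime S.N) :
    K.I.F.col.k + K.X₂.k + K.X₃.k + O.card ≤ Fintype.card (Cfsg.IrrCharacter G) := by
  choose! x hx using hex
  have hsub : ∀ {C : Subgroup G}, Nat.card C ∣ S.N → ∀ o ∈ O, x o ∉ conjSet C := by
    intro C hC o ho h
    have h1 := orderOf_of_mem_conjSet h
    rw [hx o ho] at h1
    have h2 := Nat.eq_one_of_dvd_coprimes (hcop o ho) dvd_rfl (h1.trans hC)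
    obtain ⟨g, c, -, hc1, hgc⟩ := h
    have : x o = 1 := orderOf_eq_one_iff.1 ((hx o ho).trans h2)
    rw [← hgc] at this
    exact hc1 (conj_eq_one_iff.1 this)
  let U := O.image fun o => ConjClasses.mk (x o)
  have hU : U.card = O.card := Finset.card_image_of_injOn fun a ha b hb e => by
    obtain ⟨g, hg⟩ := isConj_iff.1 (ConjClasses.mk_eq_mk_iff_isConj.1 e)
    rw [← hx a ha, ← hx b hb, ← hg, show g * x a * g⁻¹ = MulAut.conj g (x a) from rfl,
      MulEquiv.orderOf_eq]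
  have d12 : Disjoint (ccClasses S.A₁) (ccClasses S.A₂) := Finset.disjoint_left.2 fun L h1 h2 => by
    obtain ⟨g, rfl⟩ := ConjClasses.mk_surjective L
    exact disjoint_conjSet S.hC₁ S.hC₂ S.nc₁₂ (ccClasses_mem h1 rfl) (ccClasses_mem h2 rfl)
  have d13 : Disjoint (ccClasses S.A₁) (ccClasses S.A₃) := Finset.disjoint_left.2 fun L h1 h2 => by
    obtain ⟨g, rfl⟩ := ConjClasses.mk_surjective L
    exact disjoint_conjSet S.hC₁ S.hC₃ S.nc₁₃ (ccClasses_mem h1 rfl) (ccClasses_mem h2 rfl)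
  have d23 : Disjoint (ccClasses S.A₂) (ccClasses S.A₃) := Finset.disjoint_left.2 fun L h1 h2 => by
    obtain ⟨g, rfl⟩ := ConjClasses.mk_surjective L
    exact disjoint_conjSet S.hC₂ S.hC₃ S.nc₂₃ (ccClasses_mem h1 rfl) (ccClasses_mem h2 rfl)
  have dU : ∀ {C : Subgroup G}, Nat.card C ∣ S.N → Disjoint (ccClasses C) U := fun {C} hC =>
    Finset.disjoint_left.2 fun L h1 h2 => by
      obtain ⟨o, ho, rfl⟩ := Finset.mem_image.1 h2
      exact hsub hC o ho (ccClasses_mem h1 rfl)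
  have hk1 : K.I.F.col.k ≤ (ccClasses S.A₁).card := by
    have := ccClasses_card S.hC₁ S.h₁; have := K.I.F.col.order; omega
  have hk2 : K.X₂.k ≤ (ccClasses S.A₂).card := by
    have := ccClasses_card S.hC₂ S.h₂; have := K.X₂.order; omega
  have hk3 : K.X₃.k ≤ (ccClasses S.A₃).card := by
    have := ccClasses_card S.hC₃ S.h₃; have := K.X₃.order; omega
  have hn1 : Nat.card S.A₁ ∣ S.N := Dvd.intro (S.n₂ * S.n₃) (by simp only [Sys244.N, Sys244.n₁]; ring)
  have hn2 : Nat.card S.A₂ ∣ S.N := Dvd.intro (S.n₁ * S.n₃) (by simp only [Sys244.N, Sys244.n₂]; ring)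
  have hn3 : Nat.card S.A₃ ∣ S.N := Dvd.intro (S.n₁ * S.n₂) (by simp only [Sys244.N, Sys244.n₃]; ring)
  rw [Fintype.card_eq_nat_card, Characters.Complete.card_irr_eq_card_conjClasses,
    ← Fintype.card_eq_nat_card]
  refine le_trans ?_ (Finset.card_le_univ
    ((ccClasses S.A₁ ∪ ccClasses S.A₂) ∪ ccClasses S.A₃ ∪ U))
  rw [Finset.card_union_of_disjoint (Finset.disjoint_union_left.2
      ⟨Finset.disjoint_union_left.2 ⟨dU hn1, dU hn2⟩, dU hn3⟩),
    Finset.card_union_of_disjoint (Finset.disjoint_union_left.2 ⟨d13, d23⟩),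
    Finset.card_union_of_disjoint d12, hU]
  omega

/-- The centraliser of an involution is a 2-group. -/
theorem prime_dvd_c {r : ℕ} (hr : r.Prime) (hrc : r ∣ K.I.c) : r = 2 := by
  by_contra hr2
  obtain ⟨κ, hκ, hf, hm, hc, hr1, hκR, hup⟩ := K.degree_data'
  haveI := Fact.mk hr
  have hro : Odd r := hr.odd_of_ne_two hr2
  have hr3 : 3 ≤ r := by have := hr.two_le; obtain ⟨t, ht⟩ := hro; omega
  obtain ⟨⟨x, hxc⟩, hx⟩ := exists_prime_orderOf_dvd_card'
    (G := Subgroup.centralizer ({K.I.z} : Set G)) r hrc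
  rw [Subgroup.orderOf_mk] at hx
  have hzx : Commute K.I.z x := (Subgroup.mem_centralizer_singleton_iff.1 hxc).symm
  have h2r : orderOf (K.I.z * x) = 2 * r := by
    rw [hzx.orderOf_mul_eq_mul_orderOf_of_coprime (by
      rw [K.I.z_order, hx]; exact Nat.coprime_two_left.2 hro), K.I.z_order, hx]
  obtain ⟨y, -, hy⟩ := S.exists_four
  have hrm : r ∣ S.m := hrc.trans (S.c_dvd K.I)
  have hex : ∀ o ∈ ({1, 2, 4, r, 2 * r} : Finset ℕ), ∃ g : G, orderOf g = o := by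
    simp only [Finset.mem_insert, Finset.mem_singleton]
    rintro o (rfl | rfl | rfl | rfl | rfl)
    exacts [⟨1, orderOf_one⟩, ⟨_, K.I.z_order⟩, ⟨y, hy⟩, ⟨x, hx⟩, ⟨_, h2r⟩]
  have h2N : Nat.Coprime 2 S.N := Nat.coprime_two_left.2 S.odd_N
  have hcop : ∀ o ∈ ({1, 2, 4, r, 2 * r} : Finset ℕ), o.Coprime S.N := by
    have hr' : r.Coprime S.N := S.m_cop.coprime_dvd_left hrm
    simp only [Finset.mem_insert, Finset.mem_singleton]
    rintro o (rfl | rfl | rfl | rfl | rfl)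
    exacts [Nat.coprime_one_left _, h2N, (Nat.Coprime.mul_left h2N h2N : Nat.Coprime (2 * 2) S.N),
      hr', Nat.Coprime.mul_left h2N hr']
  have hcard : ({1, 2, 4, r, 2 * r} : Finset ℕ).card = 5 := by
    obtain ⟨t, ht⟩ := hro
    simp [show r ≠ 1 from hr.ne_one, show 1 ≠ r from hr.ne_one.symm, show 2 ≠ r from fun e => hr2 e.symm,
      show 4 ≠ r by omega, show 2 ≠ 2 * r by omega, show 4 ≠ 2 * r by omega, show r ≠ 2 * r by omega,
      show 1 ≠ 2 * r by omega]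
  have hcount := K.order_count _ hex hcop
  have hirr := K.card_irr_le
  rw [hcard] at hcount
  have hR : K.R₀.card = 1 := by omega
  have hκ2 : κ ≠ 1 := fun h => by have := hκR h; omega
  -- every odd prime of `m` is `r`
  have honly : ∀ q : ℕ, q.Prime → q ∣ S.m → q = 2 ∨ q = r := by
    intro q hq hqm
    by_contra hne
    rw [not_or] at hne
    haveI := Fact.mk hq
    obtain ⟨w, hw⟩ := exists_prime_orderOf_dvd_card' (G := G) q
      (S.card_eq ▸ hqm.mul_left S.N)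
    have hmem : q ∉ ({1, 2, 4, r, 2 * r} : Finset ℕ) := by
      simp only [Finset.mem_insert, Finset.mem_singleton, not_or]
      refine ⟨hq.ne_one, hne.1, ?_, hne.2, ?_⟩
      · intro e; rw [e] at hq; norm_num at hq
      · intro e
        exact hne.1 (((Nat.prime_dvd_prime_iff_eq Nat.prime_two hq).1 ⟨r, e⟩).symm)
    have h6 := K.order_count (insert q ({1, 2, 4, r, 2 * r} : Finset ℕ))
      (fun o ho => by
        rcases Finset.mem_insert.1 ho with rfl | ho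
        · exact ⟨w, hw⟩
        · exact hex o ho)
      (fun o ho => by
        rcases Finset.mem_insert.1 ho with rfl | ho
        · exact S.m_cop.coprime_dvd_left hqm
        · exact hcop o ho)
    rw [Finset.card_insert_of_notMem hmem, hcard] at h6
    omega
  have hκD : κ.Coprime K.I.D := by
    have hfe := K.I.f_eq
    have hfD : K.I.F.col.f.Coprime K.I.D := by
      rw [← Nat.isCoprime_iff_coprime]
      refine ⟨K.I.F.δ, -K.I.F.δ, ?_⟩
      rcases K.I.F.hδ with e | e <;> rw [e] at hfe ⊢ <;> linarith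
    exact hfD.coprime_dvd_left ⟨_, hf⟩
  have hD1 : 1 < K.I.D := by
    have h1 := K.I.f_eq
    have h2 : 117 ≤ K.I.F.col.f := hf ▸ le_trans S.P_ge (Nat.le_mul_of_pos_left _ hκ)
    rcases K.I.F.hδ with e | e <;> rw [e] at h1 <;> omega
  rcases Nat.even_or_odd κ with hκe | hκo
  · -- `D` is a power of `r`
    have hDo : ¬ 2 ∣ K.I.D := fun h => by
      exact absurd (Nat.eq_one_of_dvd_coprimes hκD (even_iff_two_dvd.1 hκe) h) (by norm_num)
    have hDr : ∀ q : ℕ, q.Prime → q ∣ K.I.D → q = r := fun q hq hqD =>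
      (honly q hq (hqD.trans (Dvd.intro_left _ hm.symm))).resolve_left fun e => hDo (e ▸ hqD)
    obtain ⟨b, hb⟩ : ∃ b, K.I.D = r ^ b :=
      ⟨_, Nat.eq_prime_pow_of_unique_prime_dvd (by omega) fun {q} hq hqD => hDr q hq hqD⟩
    have hb0 : b ≠ 0 := fun h => by rw [h, pow_zero] at hb; omega
    have hrκ : ¬ r ∣ κ := fun h => hr.ne_one
      (Nat.eq_one_of_dvd_coprimes hκD h (hb ▸ dvd_pow_self r hb0))
    obtain ⟨o, ho⟩ := S.c_dvd K.I
    have hc0 : 0 < K.I.c := Nat.card_pos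
    have hoodd : ¬ 2 ∣ o := by
      have h := S.c_odd_part K.I
      rwa [ho, Nat.mul_div_cancel_left o hc0] at h
    have hκo' : κ.Coprime o := Nat.coprime_of_dvd fun q hq hqκ hqo => by
      rcases honly q hq (hqκ.trans (Dvd.intro _ hm.symm)) with rfl | rfl
      · exact hoodd hqo
      · exact hrκ hqκ
    obtain ⟨g, hg⟩ := hκo'.dvd_of_dvd_mul_right (ho ▸ Dvd.intro _ hm.symm : κ ∣ K.I.c * o)
    have hgo : g * o = r ^ b := by
      have h1 : κ * (g * o) = κ * r ^ b := by rw [← mul_assoc, ← hg, ← ho, hm, hb]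
      exact Nat.eq_of_mul_eq_mul_left hκ h1
    obtain ⟨i, -, hi⟩ := (Nat.dvd_prime_pow hr).1 (Dvd.intro o hgo)
    have hrg : r ∣ g := ((hr.coprime_iff_not_dvd).2 hrκ).dvd_of_dvd_mul_left (hg ▸ hrc)
    have hg3 : 3 ≤ g := le_trans hr3 (Nat.le_of_dvd (by rw [hi]; exact pow_pos hr.pos i) hrg)
    -- a Sylow `r`-subgroup of the centraliser
    obtain ⟨R⟩ := (inferInstance : Nonempty (Sylow r (Subgroup.centralizer ({K.I.z} : Set G))))
    have hRcard : Nat.card (R : Subgroup (Subgroup.centralizer ({K.I.z} : Set G))) = g := by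
      rw [R.card_eq_multiplicity, show Nat.card (Subgroup.centralizer ({K.I.z} : Set G)) = κ * g
        from hg, Nat.factorization_mul (by omega) (by omega), Finsupp.add_apply,
        Nat.factorization_eq_zero_of_not_dvd hrκ, zero_add, hi,
        Nat.Prime.factorization_pow hr, Finsupp.single_eq_same]
    let R' := (R : Subgroup (Subgroup.centralizer ({K.I.z} : Set G)))
    let φ : (Subgroup.zpowers K.I.z) × R' →* G := MonoidHom.noncommCoprod
      (Subgroup.zpowers K.I.z).subtype ((Subgroup.centralizer ({K.I.z} : Set G)).subtype.comp R'.subtype)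
      (fun u v => by
        obtain ⟨j, hj⟩ := Subgroup.mem_zpowers_iff.1 u.2
        show Commute (u : G) ((v : Subgroup.centralizer ({K.I.z} : Set G)) : G)
        rw [← hj]
        exact Commute.zpow_left (Subgroup.mem_centralizer_singleton_iff.1 v.1.2).symm j)
    obtain ⟨t, ht⟩ := exists_classInner_nat (isCharacter_comp φ (isCharacter_irr K.I.F.st))
      (isCharacter_one (G := (Subgroup.zpowers K.I.z) × R'))
    have hG : Nat.card G = r ^ b * (S.N * κ) := by rw [S.card_eq, hm, hb]; ring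
    have hrN : ¬ r ∣ S.N * κ := fun h => by
      rcases hr.dvd_mul.1 h with h | h
      · exact hr.ne_one (Nat.eq_one_of_dvd_coprimes S.m_cop hrm h)
      · exact hrκ h
    have hval : ∀ p : (Subgroup.zpowers K.I.z) × R', p.2 ≠ 1 →
        (K.I.F.st : G → ℂ) (φ p) = 0 := by
      rintro ⟨u, v⟩ hv
      refine Characters.DefectZero.apply_eq_zero hr K.I.F.st (e := 1) hG hrN ?_ ?_
      · rw [dg_spec, mul_one, ← hb]; rfl
      · obtain ⟨j, hj⟩ := R.2.exists_card_eq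
        obtain ⟨jv, -, hjv⟩ := (Nat.dvd_prime_pow hr).1 (hj ▸ orderOf_dvd_natCard v)
        have hjv0 : jv ≠ 0 := fun e => hv (orderOf_eq_one_iff.1 (by rw [hjv, e, pow_zero]))
        have hvG : orderOf ((v : Subgroup.centralizer ({K.I.z} : Set G)) : G) = r ^ jv := by
          rw [Subgroup.orderOf_coe, Subgroup.orderOf_coe, hjv]
        have hu : orderOf (u : G) ∣ 2 := by
          rw [Subgroup.orderOf_coe]
          exact (orderOf_dvd_natCard u).trans (by rw [Nat.card_zpowers, K.I.z_order])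
        obtain ⟨k, hk⟩ := Subgroup.mem_zpowers_iff.1 u.2
        have hcm : Commute (u : G) ((v : Subgroup.centralizer ({K.I.z} : Set G)) : G) := by
          rw [← hk]
          exact Commute.zpow_left (Subgroup.mem_centralizer_singleton_iff.1 v.1.2).symm k
        show r ∣ orderOf ((u : G) * ((v : Subgroup.centralizer ({K.I.z} : Set G)) : G))
        rw [hcm.orderOf_mul_eq_mul_orderOf_of_coprime
          ((Nat.Coprime.coprime_dvd_left hu (Nat.coprime_two_left.2 (hvG ▸ hro.pow)))), hvG]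
        exact (dvd_pow_self r hjv0).mul_left _
    rw [Cfsg.classInner, inv_mul_eq_iff_eq_mul₀
      (Nat.cast_ne_zero.2 (Nat.card_pos (α := (Subgroup.zpowers K.I.z) × R')).ne'),
      Nat.card_prod, Nat.card_zpowers, K.I.z_order, hRcard, Fintype.sum_prod_type] at ht
    simp only [Function.comp_apply, Pi.one_apply, map_one, mul_one] at ht
    rw [Finset.sum_congr rfl (g := fun u : Subgroup.zpowers K.I.z => (K.I.F.st : G → ℂ) (u : G))
      fun u _ => by
        rw [Finset.sum_eq_single (1 : R') (fun v _ hv => hval (u, v) hv)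
          (fun h => absurd (Finset.mem_univ _) h)]
        simp [φ]] at ht
    have hz1 : K.I.z ≠ 1 := fun e => by have := K.I.z_order; rw [e, orderOf_one] at this; omega
    have hne : (1 : Subgroup.zpowers K.I.z) ≠ ⟨K.I.z, Subgroup.mem_zpowers _⟩ := fun e =>
      hz1 (congrArg Subtype.val e).symm
    have huniv : (Finset.univ : Finset (Subgroup.zpowers K.I.z)) =
        {1, ⟨K.I.z, Subgroup.mem_zpowers _⟩} := by
      symm
      apply Finset.eq_univ_of_card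
      rw [Finset.card_pair hne, ← Nat.card_eq_fintype_card, Nat.card_zpowers, K.I.z_order]
    rw [huniv, Finset.sum_pair hne, OneMemClass.coe_one, dg_spec, K.I.z_val] at ht
    have hs : (K.I.D : ℤ) + K.I.s = 2 * (g : ℤ) * t := by
      have : (((K.I.D : ℤ) + K.I.s : ℤ) : ℂ) = ((2 * (g : ℤ) * t : ℤ) : ℂ) := by
        push_cast at ht ⊢; exact ht
      exact_mod_cast this
    have hgs : (g : ℤ) ∣ K.I.s := by
      have h1 : (g : ℤ) ∣ (K.I.D : ℤ) := Int.natCast_dvd_natCast.2 (hb ▸ Dvd.intro o hgo)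
      have h2 : (g : ℤ) ∣ (K.I.D : ℤ) + K.I.s := ⟨2 * t, by rw [hs]; ring⟩
      exact (dvd_add_right h1).1 h2
    have hs0 : K.I.s ≠ 0 := fun h => by
      rw [h, sub_zero, Nat.cast_inj] at hc
      exact hDo (hc ▸ hg ▸ (even_iff_two_dvd.1 hκe).mul_right g)
    have hnorm := K.norm'
    rw [hg] at hnorm
    push_cast at hnorm
    exact odd_factor_false S.nine_le₁ S.P_ge K.I.F.hδ hκ hup hg3 hgs hs0 hnorm
  · -- `κ` odd
    have hD4 : 4 ∣ K.I.D := by
      have h := S.four_dvd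
      rw [hm] at h
      have h2 : Nat.Coprime 2 κ := Nat.coprime_two_left.2 hκo
      exact (Nat.Coprime.mul_left h2 h2 : Nat.Coprime (2 * 2) κ).dvd_of_dvd_mul_left h
    obtain ⟨a, e, he, hDe⟩ := Nat.exists_eq_two_pow_mul_odd (show K.I.D ≠ 0 by omega)
    have hG : Nat.card G = 2 ^ a * (S.N * κ * e) := by rw [S.card_eq, hm, hDe]; ring
    have hodd : Odd (S.N * κ * e) := (S.odd_N.mul hκo).mul he
    have h0 := Characters.DefectZero.apply_eq_zero Nat.prime_two K.I.F.st (e := e) hG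
      (fun h => Nat.not_even_iff_odd.2 hodd (even_iff_two_dvd.2 h))
      (by rw [dg_spec, ← hDe]; rfl) (x := K.I.z) (by rw [K.I.z_order])
    rw [K.I.z_val, Int.cast_eq_zero] at h0
    rw [h0, sub_zero, Nat.cast_inj] at hc
    obtain ⟨q, hq, hqκ⟩ := Nat.exists_prime_and_dvd hκ2
    rcases honly q hq (hqκ.trans (Dvd.intro _ hm.symm)) with rfl | rfl
    · exact Nat.not_even_iff_odd.2 hκo (even_iff_two_dvd.2 hqκ)
    · exact hr.ne_one (Nat.eq_one_of_dvd_coprimes hκD hqκ (hc ▸ hrc))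

end Cols

end Cfsg.Agent.Lib.SuzukiSystem68
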