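import Cfsg.Agent.Lib.SuzukiSystem68.Setup

/-!
# The three columns when the first order is at least nine

Owner: helper68.
-/

set_option autoImplicit false
set_option linter.unusedSectionVars false

namespace Cfsg.Agent.Lib.SuzukiSystem68

open scoped ComplexConjugate Classical
open Cfsg.Agent.Lib.Characters.Basic Cfsg.Agent.Lib.SzDegrees
open Cfsg.Agent.Lib.SzTori (conjSet)

universe u

variable {G : Type u} [Group G] [Fintype G] [Fintype (Cfsg.IrrCharacter G)]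

omit [Fintype (Cfsg.IrrCharacter G)] in
theorem cc_out {C C' : Subgroup G} (hC : IsCC C) (hC' : IsCC C')
    (hnc : ∀ g : G, C.map (MulAut.conj g).toMonoidHom ≠ C') :
    (∀ c : C', c ≠ 1 → (c : G) ∉ conjSet C) ∧ ∀ c : C, c ≠ 1 → (c : G) ∉ conjSet C' :=
  ⟨cc_disjoint hC hC' hnc, fun c hc h => disjoint_conjSet hC hC' hnc
    ⟨1, c, c.2, fun e => hc (Subtype.ext e), by simp⟩ h⟩

/-- Two families are disjoint and the values of one on the other subgroup are constant. -/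
theorem Col.cross_spec {C C' : Subgroup G} {e e' : ℕ} (X : Col C e) (Y : Col C' e')
    (hk : 2 ≤ X.k) (he' : 0 < e') (hk' : 0 < Y.k)
    (hd : ∀ c : C', c ≠ 1 → (c : G) ∉ conjSet C) :
    (∀ χ ∈ X.A, χ ∉ Y.A) ∧ ∀ χ ∈ X.A, ∀ χ' ∈ X.A, Y.dd χ' = Y.dd χ := by
  have hagree : ∀ χ ∈ X.A, ∀ χ' ∈ X.A, ∀ c : C', c ≠ 1 →
      (χ : G → ℂ) (c : G) = (χ' : G → ℂ) (c : G) := fun χ hχ χ' hχ' c hc =>
    X.agree χ hχ χ' hχ' c (hd c hc)
  have hnot : ∀ χ ∈ X.A, χ ∉ Y.A := by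
    intro χ hχ hY
    obtain ⟨χ', hχ', hne⟩ := Finset.exists_mem_ne (show 1 < X.A.card by rw [X.card]; omega) χ
    by_cases hY' : χ' ∈ Y.A
    · exact hne (Y.sep χ' hY' χ hY fun c hc => hagree χ' hχ' χ hχ c hc)
    · exact Y.nonconst χ hY _ fun c hc => (hagree χ hχ χ' hχ' c hc).trans (Y.val χ' hY' c hc)
  refine ⟨hnot, fun χ hχ χ' hχ' => ?_⟩
  obtain ⟨c, hc⟩ := Y.exists_c he' hk'
  have h1 := hagree χ' hχ' χ hχ c hc
  rw [Y.val χ' (hnot χ' hχ') c hc, Y.val χ (hnot χ hχ) c hc] at h1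
  exact_mod_cast h1

/-- The columns of the system. -/
structure Cols (S : Sys244 G) where
  I : InvData S.A₁
  X₂ : Col S.A₂ 4
  X₃ : Col S.A₃ 4

theorem Sys244.exists_cols (S : Sys244 G) : Nonempty (Cols S) := by
  obtain ⟨I⟩ := exists_invData S.hC₁ S.h₁ S.five_le
  obtain ⟨X₂⟩ := exists_col S.hC₂ (by norm_num) S.h₂ S.nine_le₂
  obtain ⟨X₃⟩ := exists_col S.hC₃ (by norm_num) S.h₃ S.nine_le₃
  exact ⟨⟨I, X₂, X₃⟩⟩

/-- The relations between a column of index four and the first. -/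
def FourFacts {C₁ C : Subgroup G} (I : InvData C₁) (X : Col C 4) : Prop :=
    (∀ χ ∈ I.F.col.A, χ ∉ X.A ∧ X.dd χ = 0) ∧ (∀ χ ∈ X.A, χ ∉ I.F.col.A ∧ χ ≠ I.F.st) ∧
      I.F.st ∉ X.A ∧ X.dd I.F.st = -I.F.δ ∧
      ∀ R : Finset (Cfsg.IrrCharacter G), oneChar G ∉ R → I.F.st ∉ R → Disjoint R X.A →
        Disjoint R I.F.col.A → ∑ χ ∈ R, X.dd χ ^ 2 ≤ 2

/-- A column of index four in its normaliser, seen against the first. -/
theorem four_column {C₁ C : Subgroup G} (I : InvData C₁) (X : Col C 4) (hk₁ : 4 ≤ I.F.col.k)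
    (hk : 2 ≤ X.k) (hd₁ : ∀ c : C, c ≠ 1 → (c : G) ∉ conjSet C₁)
    (hd : ∀ c : C₁, c ≠ 1 → (c : G) ∉ conjSet C) :
    FourFacts I X := by
  obtain ⟨hnot, hconst⟩ := I.F.col.cross_spec X (by omega) (by norm_num) (by omega) hd₁
  obtain ⟨hnot', -⟩ := X.cross_spec I.F.col hk (by norm_num) (by omega) hd
  obtain ⟨χ₀, hχ₀⟩ := Finset.card_pos.1 (show 0 < I.F.col.A.card by rw [I.F.col.card]; omega)
  have hσ : (4 : ℤ) + 2 * X.ε * X.d - (X.k : ℤ) * X.d ^ 2 ≤ 4 := by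
    have h1 : 2 * X.d ^ 2 ≤ (X.k : ℤ) * X.d ^ 2 :=
      mul_le_mul_of_nonneg_right (by exact_mod_cast hk) (sq_nonneg _)
    have h2 : 0 ≤ (X.ε * X.d) * (X.ε * X.d - 1) := by
      rcases le_or_gt (X.ε * X.d) 0 with h | h <;> nlinarith
    rcases X.eps with e | e <;> rw [e] at h2 ⊢ <;> nlinarith
  have hone : oneChar G ∈ Finset.univ \ X.A :=
    Finset.mem_sdiff.2 ⟨Finset.mem_univ _, X.one_not_mem⟩
  have hsum : (1 : ℤ) + ∑ χ ∈ (Finset.univ \ X.A).erase (oneChar G), X.dd χ ^ 2 ≤ 4 := by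
    have h := X.sum
    rw [← Finset.add_sum_erase _ _ hone, X.dd_one (by norm_num) (by omega)] at h
    push_cast at h
    linarith
  have hzero : ∀ χ ∈ I.F.col.A, X.dd χ = 0 := by
    intro χ hχ
    have hle := Finset.sum_le_sum_of_subset_of_nonneg (f := fun φ => X.dd φ ^ 2)
      (show I.F.col.A ⊆ (Finset.univ \ X.A).erase (oneChar G) from fun φ hφ => Finset.mem_erase.2
        ⟨fun e => I.F.col.one_not_mem (e ▸ hφ), Finset.mem_sdiff.2 ⟨Finset.mem_univ _, hnot φ hφ⟩⟩)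
      fun _ _ _ => sq_nonneg _
    rw [Finset.sum_congr rfl fun φ hφ => by rw [hconst χ hχ φ hφ], Finset.sum_const, nsmul_eq_mul,
      I.F.col.card] at hle
    by_contra hne
    have : 1 ≤ X.dd χ ^ 2 := by
      have : 0 < X.dd χ ^ 2 := by positivity
      omega
    have : (4 : ℤ) * 1 ≤ (I.F.col.k : ℤ) * X.dd χ ^ 2 :=
      mul_le_mul (by exact_mod_cast hk₁) this zero_le_one (by positivity)
    linarith
  have hst : ∀ c : C, c ≠ 1 → (I.F.st : G → ℂ) (c : G) = -(I.F.δ : ℂ) := fun c hc => by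
    have h := I.F.val χ₀ hχ₀ _ (hd₁ c hc)
    rw [X.val χ₀ (hnot χ₀ hχ₀) c hc, hzero χ₀ hχ₀, Int.cast_zero] at h
    linear_combination -h
  have hstX : I.F.st ∉ X.A := fun h => X.nonconst _ h _ hst
  obtain ⟨c, hc⟩ := X.exists_c (by norm_num) (by omega)
  have hdst : X.dd I.F.st = -I.F.δ := by
    have h := hst c hc
    rw [X.val _ hstX c hc] at h
    exact_mod_cast h
  refine ⟨fun χ hχ => ⟨hnot χ hχ, hzero χ hχ⟩,
    fun χ hχ => ⟨hnot' χ hχ, fun e => hstX (e ▸ hχ)⟩, hstX, hdst, fun R h1 h2 h3 h4 => ?_⟩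
  have hle := Finset.sum_le_sum_of_subset_of_nonneg (f := fun φ => X.dd φ ^ 2)
    (show insert I.F.st R ⊆ (Finset.univ \ X.A).erase (oneChar G) from fun φ hφ => by
      rcases Finset.mem_insert.1 hφ with rfl | hφ
      · exact Finset.mem_erase.2 ⟨I.F.st_ne, Finset.mem_sdiff.2 ⟨Finset.mem_univ _, hstX⟩⟩
      · exact Finset.mem_erase.2 ⟨fun e => h1 (e ▸ hφ), Finset.mem_sdiff.2
          ⟨Finset.mem_univ _, Finset.disjoint_left.1 h3 hφ⟩⟩)
    fun _ _ _ => sq_nonneg _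
  rw [Finset.sum_insert h2, hdst] at hle
  have : (-I.F.δ) ^ 2 = 1 := by rcases I.F.hδ with e | e <;> rw [e] <;> norm_num
  linarith

/-- A value of modulus one on a family of two cannot occur. -/
theorem family_parity {C : Subgroup G} (X : Col C 4) (hk : X.k = 2) {h : ℤ} (hh : h = 1 ∨ h = -1) :
    2 + h * ((X.k : ℤ) * X.d - X.ε) ≠ 0 := by
  rw [hk]
  rcases hh with rfl | rfl <;> rcases X.eps with e | e <;> rw [e] <;> push_cast <;> omega

namespace Cols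

variable {S : Sys244 G} [IsSimpleGroup G] (K : Cols S)

theorem k₁_ge : 4 ≤ K.I.F.col.k := by
  have := K.I.order; have h9 := S.nine_le₁; simp only [Sys244.n₁] at h9; omega

theorem k₂_ge : 2 ≤ K.X₂.k := by
  have := K.X₂.order; have h9 := S.nine_le₂; simp only [Sys244.n₂] at h9; omega

theorem k₃_ge : 2 ≤ K.X₃.k := by
  have := K.X₃.order; have h9 := S.nine_le₃; simp only [Sys244.n₃] at h9; omega

theorem four₂ : FourFacts K.I K.X₂ := four_column K.I K.X₂ K.k₁_ge K.k₂_ge (cc_out S.hC₁ S.hC₂ S.nc₁₂).1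
  (cc_out S.hC₁ S.hC₂ S.nc₁₂).2

theorem four₃ : FourFacts K.I K.X₃ := four_column K.I K.X₃ K.k₁_ge K.k₃_ge (cc_out S.hC₁ S.hC₃ S.nc₁₃).1
  (cc_out S.hC₁ S.hC₃ S.nc₁₃).2

/-- The characters with values zero on the first column outside the known families. -/
noncomputable def rest : Finset (Cfsg.IrrCharacter G) :=
  ((Finset.univ.erase (oneChar G)).erase K.I.F.st) \ (K.I.F.col.A ∪ K.X₂.A ∪ K.X₃.A)

theorem mem_rest {χ : Cfsg.IrrCharacter G} : χ ∈ K.rest ↔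
    χ ≠ K.I.F.st ∧ χ ≠ oneChar G ∧ χ ∉ K.I.F.col.A ∧ χ ∉ K.X₂.A ∧ χ ∉ K.X₃.A := by
  simp [rest, and_assoc]

/-- The shape of the second and third columns. -/
theorem rest_spec : (∀ χ ∈ K.rest, K.X₃.dd χ = -K.X₂.dd χ) ∧
    (K.rest.filter fun χ => K.X₂.dd χ ≠ 0).card ≤ 2 := by
  obtain ⟨h23, h23'⟩ := cc_out S.hC₂ S.hC₃ S.nc₂₃
  obtain ⟨hnot₂, hconst₂⟩ := K.X₂.cross_spec K.X₃ K.k₂_ge (by norm_num) (by have := K.k₃_ge; omega) h23
  obtain ⟨hnot₃, hconst₃⟩ := K.X₃.cross_spec K.X₂ K.k₃_ge (by norm_num) (by have := K.k₂_ge; omega) h23'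
  obtain ⟨hA₂, hA₂', hst₂, hd₂, hb₂⟩ := K.four₂
  obtain ⟨hA₃, hA₃', hst₃, hd₃, hb₃⟩ := K.four₃
  obtain ⟨χ₂, hχ₂⟩ := Finset.card_pos.1 (show 0 < K.X₂.A.card by
    rw [K.X₂.card]; have := K.k₂_ge; omega)
  obtain ⟨χ₃, hχ₃⟩ := Finset.card_pos.1 (show 0 < K.X₃.A.card by
    rw [K.X₃.card]; have := K.k₃_ge; omega)
  set h₂ := K.X₃.dd χ₂ with hh₂
  set h₃ := K.X₂.dd χ₃ with hh₃
  have hdis : ∀ χ ∈ K.rest, χ ∉ K.X₃.A := fun χ hχ => (K.mem_rest.1 hχ).2.2.2.2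
  have hdis' : ∀ χ ∈ K.rest, χ ∉ K.X₂.A := fun χ hχ => (K.mem_rest.1 hχ).2.2.2.1
  -- the bounds
  have b₂ : (∑ χ ∈ K.rest, K.X₂.dd χ ^ 2) + (K.X₃.k : ℤ) * h₃ ^ 2 ≤ 2 := by
    have h := hb₂ (K.rest ∪ K.X₃.A) (by
        rw [Finset.mem_union]; rintro (h | h)
        · exact (K.mem_rest.1 h).2.1 rfl
        · exact K.X₃.one_not_mem h)
      (by
        rw [Finset.mem_union]; rintro (h | h)
        · exact (K.mem_rest.1 h).1 rfl
        · exact hst₃ h)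
      (Finset.disjoint_union_left.2 ⟨Finset.disjoint_left.2 hdis', Finset.disjoint_left.2 hnot₃⟩)
      (Finset.disjoint_union_left.2 ⟨Finset.disjoint_left.2 fun χ hχ => (K.mem_rest.1 hχ).2.2.1,
        Finset.disjoint_left.2 fun χ hχ => (hA₃' χ hχ).1⟩)
    rwa [Finset.sum_union (Finset.disjoint_left.2 hdis),
      Finset.sum_congr (s₁ := K.X₃.A) rfl fun φ hφ => by rw [hconst₃ χ₃ hχ₃ φ hφ], Finset.sum_const,
      nsmul_eq_mul, K.X₃.card] at h
  have b₃ : (∑ χ ∈ K.rest, K.X₃.dd χ ^ 2) + (K.X₂.k : ℤ) * h₂ ^ 2 ≤ 2 := by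
    have h := hb₃ (K.rest ∪ K.X₂.A) (by
        rw [Finset.mem_union]; rintro (h | h)
        · exact (K.mem_rest.1 h).2.1 rfl
        · exact K.X₂.one_not_mem h)
      (by
        rw [Finset.mem_union]; rintro (h | h)
        · exact (K.mem_rest.1 h).1 rfl
        · exact hst₂ h)
      (Finset.disjoint_union_left.2 ⟨Finset.disjoint_left.2 hdis, Finset.disjoint_left.2 hnot₂⟩)
      (Finset.disjoint_union_left.2 ⟨Finset.disjoint_left.2 fun χ hχ => (K.mem_rest.1 hχ).2.2.1,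
        Finset.disjoint_left.2 fun χ hχ => (hA₂' χ hχ).1⟩)
    rwa [Finset.sum_union (Finset.disjoint_left.2 hdis'),
      Finset.sum_congr (s₁ := K.X₂.A) rfl fun φ hφ => by rw [hconst₂ χ₂ hχ₂ φ hφ], Finset.sum_const,
      nsmul_eq_mul, K.X₂.card] at h
  -- orthogonality
  obtain ⟨a₃, ha₃⟩ := K.X₃.exists_c (by norm_num) (by have := K.k₃_ge; omega)
  have horth : 2 + (∑ χ ∈ K.rest, K.X₂.dd χ * K.X₃.dd χ) +
      h₂ * ((K.X₂.k : ℤ) * K.X₂.d - K.X₂.ε) + h₃ * ((K.X₃.k : ℤ) * K.X₃.d - K.X₃.ε) = 0 := by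
    have h := K.X₂.orth (by norm_num) (by have := K.k₂_ge; omega) (h23 a₃ ha₃) hχ₂
    rw [K.X₃.val χ₂ (hnot₂ χ₂ hχ₂) a₃ ha₃, ← hh₂] at h
    have hU : Finset.univ \ K.X₂.A =
        insert (oneChar G) (insert K.I.F.st (K.I.F.col.A ∪ (K.X₃.A ∪ K.rest))) := by
      ext χ
      simp only [Finset.mem_sdiff, Finset.mem_univ, true_and, Finset.mem_insert, Finset.mem_union]
      constructor
      · intro hχ
        by_contra hc
        simp only [not_or] at hc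
        exact hc.2.2.2.2 (K.mem_rest.2 ⟨hc.2.1, hc.1, hc.2.2.1, hχ, hc.2.2.2.1⟩)
      · rintro (rfl | rfl | hχ | hχ | hχ)
        · exact K.X₂.one_not_mem
        · exact hst₂
        · exact (hA₂ χ hχ).1
        · exact hnot₃ χ hχ
        · exact hdis' χ hχ
    rw [hU, Finset.sum_insert, Finset.sum_insert, Finset.sum_union, Finset.sum_union,
      Finset.sum_eq_zero (s := K.I.F.col.A) fun χ hχ => by rw [(hA₂ χ hχ).2]; simp,
      Finset.sum_congr (s₁ := K.X₃.A) rfl fun χ hχ => by rw [hconst₃ χ₃ hχ₃ χ hχ, ← hh₃],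
      ← Finset.mul_sum, K.X₃.total a₃ ha₃,
      Finset.sum_congr (s₁ := K.rest) rfl fun χ hχ => by rw [K.X₃.val χ (hdis χ hχ) a₃ ha₃],
      K.X₂.dd_one (by norm_num) (by have := K.k₂_ge; omega), oneChar_apply, hd₂,
      K.X₃.val _ hst₃ a₃ ha₃, hd₃] at h
    · have : (((2 + (∑ χ ∈ K.rest, K.X₂.dd χ * K.X₃.dd χ) +
          h₂ * ((K.X₂.k : ℤ) * K.X₂.d - K.X₂.ε) + h₃ * ((K.X₃.k : ℤ) * K.X₃.d - K.X₃.ε)) : ℤ) : ℂ) =
          ((0 : ℤ) : ℂ) := by
        push_cast at h ⊢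
        have hδ2 : (K.I.F.δ : ℂ) * K.I.F.δ = 1 := by
          rcases K.I.F.hδ with e | e <;> rw [e] <;> norm_num
        linear_combination h - hδ2
      exact_mod_cast this
    · exact Finset.disjoint_left.2 fun χ hχ h' => (hdis χ h') hχ
    · exact Finset.disjoint_union_right.2 ⟨Finset.disjoint_left.2 fun χ hχ => (hA₃ χ hχ).1,
        Finset.disjoint_left.2 fun χ hχ h' => (K.mem_rest.1 h').2.2.1 hχ⟩
    · simp only [Finset.mem_union, not_or]
      exact ⟨K.I.F.st_not, hst₃, fun h' => (K.mem_rest.1 h').1 rfl⟩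
    · simp only [Finset.mem_insert, Finset.mem_union, not_or]
      exact ⟨fun e => K.I.F.st_ne e.symm, K.I.F.col.one_not_mem, K.X₃.one_not_mem,
        fun h' => (K.mem_rest.1 h').2.1 rfl⟩
  have hk₂ : (2 : ℤ) ≤ K.X₂.k := by exact_mod_cast K.k₂_ge
  have hk₃ : (2 : ℤ) ≤ K.X₃.k := by exact_mod_cast K.k₃_ge
  have hn₂ := Finset.sum_nonneg (s := K.rest) fun χ _ => sq_nonneg (K.X₂.dd χ)
  have hn₃ := Finset.sum_nonneg (s := K.rest) fun χ _ => sq_nonneg (K.X₃.dd χ)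
  have hkne : ¬ (K.X₂.k = 2 ∧ K.X₃.k = 2) := fun ⟨e2, e3⟩ => by
    have o2 := K.X₂.order; have o3 := K.X₃.order
    rw [e2] at o2; rw [e3] at o3
    have := S.cop₂₃
    simp only [Sys244.n₂, Sys244.n₃, ← o2, ← o3] at this
    norm_num at this
  have key : ∀ (k : ℕ) (h S' : ℤ), 2 ≤ k → 0 ≤ S' → S' + (k : ℤ) * h ^ 2 ≤ 2 →
      h = 0 ∨ (k = 2 ∧ (h = 1 ∨ h = -1) ∧ S' = 0) := by
    intro k h S' hk hS hle
    by_cases h0 : h = 0
    · exact Or.inl h0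
    right
    have h1 : 1 ≤ h ^ 2 := by
      have : 0 < h ^ 2 := by positivity
      omega
    have hk' : (2 : ℤ) ≤ k := by exact_mod_cast hk
    have h2 : 2 * h ^ 2 ≤ (k : ℤ) * h ^ 2 := mul_le_mul_of_nonneg_right hk' (sq_nonneg h)
    have h3 : h ^ 2 = 1 := by omega
    rw [h3] at hle
    refine ⟨by omega, sq_eq_one_iff.1 h3, by omega⟩
  have hh : h₂ = 0 ∧ h₃ = 0 := by
    rcases key _ h₃ _ K.k₃_ge hn₂ b₂ with e3 | ⟨ek3, eh3, es3⟩
    · rcases key _ h₂ _ K.k₂_ge hn₃ b₃ with e2 | ⟨ek2, eh2, es2⟩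
      · exact ⟨e2, e3⟩
      · exfalso
        have hz := (Finset.sum_eq_zero_iff_of_nonneg fun χ _ => sq_nonneg (K.X₃.dd χ)).1 es2
        rw [Finset.sum_eq_zero fun χ hχ => by rw [pow_eq_zero_iff two_ne_zero |>.1 (hz χ hχ), mul_zero],
          e3, zero_mul, add_zero, add_zero] at horth
        exact family_parity K.X₂ ek2 eh2 horth
    · rcases key _ h₂ _ K.k₂_ge hn₃ b₃ with e2 | ⟨ek2, -, -⟩
      · exfalso
        have hz := (Finset.sum_eq_zero_iff_of_nonneg fun χ _ => sq_nonneg (K.X₂.dd χ)).1 es3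
        rw [Finset.sum_eq_zero fun χ hχ => by rw [pow_eq_zero_iff two_ne_zero |>.1 (hz χ hχ), zero_mul],
          e2, zero_mul, add_zero, add_zero] at horth
        exact family_parity K.X₃ ek3 eh3 horth
      · exact absurd ⟨ek2, ek3⟩ hkne
  rw [hh.1, hh.2, zero_mul, zero_mul, add_zero, add_zero] at horth
  rw [hh.2] at b₂
  rw [hh.1] at b₃
  have hq : ∑ χ ∈ K.rest, (K.X₂.dd χ + K.X₃.dd χ) ^ 2 ≤ 0 := by
    rw [Finset.sum_congr rfl fun χ _ => show (K.X₂.dd χ + K.X₃.dd χ) ^ 2 =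
      K.X₂.dd χ ^ 2 + K.X₃.dd χ ^ 2 + 2 * (K.X₂.dd χ * K.X₃.dd χ) by ring,
      Finset.sum_add_distrib, Finset.sum_add_distrib, ← Finset.mul_sum]
    linarith
  refine ⟨fun χ hχ => ?_, ?_⟩
  · have := (Finset.sum_eq_zero_iff_of_nonneg fun χ _ => sq_nonneg (K.X₂.dd χ + K.X₃.dd χ)).1
      (le_antisymm hq (Finset.sum_nonneg fun χ _ => sq_nonneg _)) χ hχ
    have := pow_eq_zero_iff two_ne_zero |>.1 this
    omega
  · have h1 : ((K.rest.filter fun χ => K.X₂.dd χ ≠ 0).card : ℤ) ≤ ∑ χ ∈ K.rest, K.X₂.dd χ ^ 2 := by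
      rw [Finset.card_eq_sum_ones, Nat.cast_sum]
      refine le_trans (Finset.sum_le_sum fun χ hχ => ?_)
        (Finset.sum_le_sum_of_subset_of_nonneg (Finset.filter_subset _ _) fun _ _ _ => sq_nonneg _)
      have : 0 < K.X₂.dd χ ^ 2 := by
        have := (Finset.mem_filter.1 hχ).2
        positivity
      push_cast
      omega
    omega

/-- The characters of degree divisible by the product of the orders. -/
noncomputable def R₀ : Finset (Cfsg.IrrCharacter G) := K.rest.filter fun χ => K.X₂.dd χ = 0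

theorem R₀_dvd {χ : Cfsg.IrrCharacter G} (hχ : χ ∈ K.R₀) : S.N ∣ dg χ := by
  obtain ⟨hr, h0⟩ := Finset.mem_filter.1 hχ
  obtain ⟨hs, ho, h1, h2, h3⟩ := K.mem_rest.1 hr
  have d1 := K.I.F.col.valdeg χ h1
  have d2 := K.X₂.valdeg χ h2
  have d3 := K.X₃.valdeg χ h3
  rw [K.I.F.dd_zero χ h1 ho hs, sub_zero, Int.natCast_dvd_natCast] at d1
  rw [h0, sub_zero, Int.natCast_dvd_natCast] at d2
  rw [K.rest_spec.1 χ hr, h0, neg_zero, sub_zero, Int.natCast_dvd_natCast] at d3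
  exact Nat.Coprime.mul_dvd_of_dvd_of_dvd (Nat.Coprime.mul_left S.cop₁₃ S.cop₂₃)
    (Nat.Coprime.mul_dvd_of_dvd_of_dvd S.cop₁₂ d1 d2) d3

/-- The number of irreducible characters. -/
theorem card_irr_le : Fintype.card (Cfsg.IrrCharacter G) ≤
    K.I.F.col.k + K.X₂.k + K.X₃.k + 4 + K.R₀.card := by
  have hsub : (Finset.univ : Finset (Cfsg.IrrCharacter G)) ⊆
      {oneChar G, K.I.F.st} ∪ K.I.F.col.A ∪ K.X₂.A ∪ K.X₃.A ∪
        (K.rest.filter fun χ => K.X₂.dd χ ≠ 0) ∪ K.R₀ := by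
    intro χ _
    simp only [Finset.mem_union, Finset.mem_insert, Finset.mem_singleton, Finset.mem_filter, R₀,
      K.mem_rest]
    tauto
  refine (Finset.card_le_card hsub).trans ?_
  refine (Finset.card_union_le _ _).trans (Nat.add_le_add_right ?_ _)
  refine (Finset.card_union_le _ _).trans ?_
  refine (Nat.add_le_add ((Finset.card_union_le _ _).trans (Nat.add_le_add
    ((Finset.card_union_le _ _).trans (Nat.add_le_add ((Finset.card_union_le _ _).trans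
      (Nat.add_le_add_right Finset.card_le_two _)) le_rfl)) le_rfl)) K.rest_spec.2).trans ?_
  rw [K.I.F.col.card, K.X₂.card, K.X₃.card]
  omega

/-- The degree of the characters of the first family is divisible by the two other orders. -/
theorem P_dvd_f : S.n₂ * S.n₃ ∣ K.I.F.col.f := by
  have key : ∀ {C : Subgroup G} (X : Col C 4), K.I.F.st ∉ X.A → X.dd K.I.F.st = -K.I.F.δ →
      Nat.card C ∣ K.I.F.col.f := by
    intro C X hst hd
    have h := X.valdeg _ hst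
    rw [hd, sub_neg_eq_add, ← K.I.F.deg_f, Int.natCast_dvd_natCast] at h
    exact h
  exact Nat.Coprime.mul_dvd_of_dvd_of_dvd S.cop₂₃
    (key K.X₂ K.four₂.2.2.1 K.four₂.2.2.2.1) (key K.X₃ K.four₃.2.2.1 K.four₃.2.2.2.1)

end Cols

end Cfsg.Agent.Lib.SuzukiSystem68
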