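import Cfsg.Agent.Lib.SuzukiSystem68.Chars
import Cfsg.Agent.Lib.Inv59.EightChar

/-!
# The involutions of a simple group with a CC subgroup of index two in its normaliser

Owner: helper68.
-/

set_option autoImplicit false
set_option linter.unusedSectionVars false

namespace Cfsg.Agent.Lib.SuzukiSystem68

open scoped ComplexConjugate Classical
open Cfsg.Agent.Lib.Characters.Basic Cfsg.Agent.Lib.SzDegrees
open Cfsg.Agent.Lib.SzTori (conjSet ti_of_centralizer)

universe u

variable {G : Type u} [Group G] [Fintype G] [Fintype (Cfsg.IrrCharacter G)] {C : Subgroup G}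

omit [Fintype (Cfsg.IrrCharacter G)] in
theorem orderOf_of_mem_conjSet {y : G} (hy : y ∈ conjSet C) : orderOf y ∣ Nat.card C := by
  obtain ⟨g, c, hc, -, rfl⟩ := hy
  rw [show g * c * g⁻¹ = MulAut.conj g c from rfl, MulEquiv.orderOf_eq]
  exact Subgroup.orderOf_dvd_natCard C hc

omit [Fintype (Cfsg.IrrCharacter G)] in
theorem not_mem_conjSet_of_coprime {y : G} (hy : y ≠ 1)
    (h : (orderOf y).Coprime (Nat.card C)) : y ∉ conjSet C := fun hm =>
  hy (orderOf_eq_one_iff.1 (Nat.eq_one_of_dvd_coprimes h dvd_rfl (orderOf_of_mem_conjSet hm)))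

omit [Fintype (Cfsg.IrrCharacter G)] in
theorem involution_not_mem (hodd : Odd (Nat.card C)) {w : G} (hw : orderOf w = 2) :
    w ∉ conjSet C := fun hm => by
  have h := orderOf_of_mem_conjSet hm
  rw [hw] at h
  exact Nat.not_even_iff_odd.2 hodd (even_iff_two_dvd.2 h)

/-- The sign of the normaliser of a subgroup of index two. -/
theorem exists_sign (h : C.relIndex (Subgroup.normalizer (C : Set G)) = 2) :
    ∃ μ : Subgroup.normalizer (C : Set G) →* ℂˣ, ∀ x, (μ x : ℂ) = if (x : G) ∈ C then 1 else -1 := by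
  set N := Subgroup.normalizer (C : Set G)
  have hmul : ∀ a b : N, ((a * b : N) : G) ∈ C ↔ ((a : G) ∈ C ↔ (b : G) ∈ C) := fun a b => by
    have := Subgroup.mul_mem_iff_of_index_two (H := C.subgroupOf N) h (a := a) (b := b)
    simpa only [Subgroup.mem_subgroupOf] using this
  refine ⟨{ toFun := fun x => if (x : G) ∈ C then 1 else -1, map_one' := by simp,
            map_mul' := fun a b => ?_ }, fun x => ?_⟩
  · simp only [hmul]
    by_cases ha : (a : G) ∈ C <;> by_cases hb : (b : G) ∈ C <;> simp [ha, hb]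
  · simp only [MonoidHom.coe_mk, OneHom.coe_mk]
    split_ifs <;> simp

/-- The data attached to the subgroup with index two. -/
structure InvData (C : Subgroup G) where
  F : First C
  hC : IsCC C
  idx : C.relIndex (Subgroup.normalizer (C : Set G)) = 2
  hodd : Odd (Nat.card C)
  two_le : 2 ≤ F.col.k
  z : G
  s : ℤ
  z_mem : z ∈ Subgroup.normalizer (C : Set G)
  z_not : z ∉ C
  z_sq : z * z = 1
  z_inv : ∀ a ∈ C, z * a * z = a⁻¹
  z_conj : ∀ x ∈ Subgroup.normalizer (C : Set G), x ∉ C → ∃ b ∈ C, x = b * z * b⁻¹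
  z_val : (F.st : G → ℂ) z = s
  z_par : (2 : ℤ) ∣ (dg F.st : ℤ) + s

theorem exists_invData (hC : IsCC C) (h : C.relIndex (Subgroup.normalizer (C : Set G)) = 2)
    (h5 : 5 ≤ Nat.card C) : Nonempty (InvData C) := by
  obtain ⟨X⟩ := exists_col hC (by norm_num) h (by omega)
  have hk : 2 ≤ X.k := by have := X.order; omega
  obtain ⟨F⟩ := exists_first X hk
  have hodd := cc_odd hC dvd_rfl h
  obtain ⟨z, hzN, hzC, hz2, hinv, hconj⟩ := cc_exists_involution hC hodd h
  have hz : orderOf z = 2 :=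
    orderOf_eq_prime (by rw [sq]; exact hz2) fun e => hzC (e ▸ C.one_mem)
  obtain ⟨s, hs, hpar⟩ := apply_involution F.st hz
  exact ⟨⟨F, hC, h, hodd, by have := F.col.order; omega, z, s, hzN, hzC, hz2, hinv, hconj, hs, hpar⟩⟩

namespace InvData

variable (I : InvData C)

/-- The degree of the second character. -/
noncomputable def D : ℕ := dg I.F.st

/-- The order of the centraliser of the involution. -/
noncomputable def c : ℕ := Nat.card (Subgroup.centralizer ({I.z} : Set G))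

theorem order : I.F.col.k * 2 + 1 = Nat.card C := I.F.col.order

theorem z_order : orderOf I.z = 2 :=
  orderOf_eq_prime (by rw [sq]; exact I.z_sq) fun e => I.z_not (e ▸ C.one_mem)

theorem z_out : I.z ∉ conjSet C := involution_not_mem I.hodd I.z_order

theorem f_eq : (I.F.col.f : ℤ) = I.D + I.F.δ := I.F.deg_f

theorem D_cong : (Nat.card C : ℤ) ∣ (I.D : ℤ) - I.F.δ := by
  have := I.F.col.valdeg _ I.F.st_not
  rwa [I.F.dd_st] at this

theorem f_pos : 1 ≤ I.F.col.f := by
  obtain ⟨χ, hχ⟩ := Finset.card_pos.1 (show 0 < I.F.col.A.card by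
    rw [I.F.col.card]; have := I.two_le; omega)
  have h := I.F.col.deg χ hχ
  rw [dg_spec, Nat.cast_inj] at h
  exact h ▸ dg_pos χ

theorem D_pos : 1 ≤ I.D := dg_pos _

/-- Pairs of conjugates of `z` with product a non-trivial element of `C`. -/
theorem pairs_count {a : G} (ha : a ∈ C) (ha1 : a ≠ 1) :
    ((Finset.univ ×ˢ Finset.univ).filter fun p : G × G =>
      p.1 * I.z * p.1⁻¹ * (p.2 * I.z * p.2⁻¹) = a).card = Nat.card C * I.c * I.c := by
  set N := Subgroup.normalizer (C : Set G) with hN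
  set S := Finset.univ.filter fun g : G => g ∈ N ∧ g ∉ C with hS
  have hu : ∀ u ∈ S, IsConj I.z u ∧ IsConj I.z (u * a) ∧ u * (u * a) = a := by
    intro u hu
    obtain ⟨huN, huC⟩ := (Finset.mem_filter.1 hu).2
    obtain ⟨b, -, hb⟩ := I.z_conj u huN huC
    have huaN : u * a ∈ N := N.mul_mem huN (Subgroup.le_normalizer ha)
    have huaC : u * a ∉ C := fun h => huC (by simpa using C.mul_mem h (C.inv_mem ha))
    obtain ⟨b', -, hb'⟩ := I.z_conj _ huaN huaC
    refine ⟨isConj_iff.2 ⟨b, hb.symm⟩, isConj_iff.2 ⟨b', hb'.symm⟩, ?_⟩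
    rw [← mul_assoc, show u * u = 1 by
      rw [hb]; calc b * I.z * b⁻¹ * (b * I.z * b⁻¹) = b * (I.z * I.z) * b⁻¹ := by group
        _ = 1 := by rw [I.z_sq]; group, one_mul]
  have hmaps : ∀ p ∈ (Finset.univ ×ˢ Finset.univ).filter (fun p : G × G =>
      p.1 * I.z * p.1⁻¹ * (p.2 * I.z * p.2⁻¹) = a), p.1 * I.z * p.1⁻¹ ∈ S := by
    rintro ⟨g, h⟩ hp
    have hp' := (Finset.mem_filter.1 hp).2
    set u := g * I.z * g⁻¹ with hudef
    set v := h * I.z * h⁻¹ with hvdef
    have huu : u * u = 1 := by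
      rw [hudef]; calc g * I.z * g⁻¹ * (g * I.z * g⁻¹) = g * (I.z * I.z) * g⁻¹ := by group
        _ = 1 := by rw [I.z_sq]; group
    have hvv : v * v = 1 := by
      rw [hvdef]; calc h * I.z * h⁻¹ * (h * I.z * h⁻¹) = h * (I.z * I.z) * h⁻¹ := by group
        _ = 1 := by rw [I.z_sq]; group
    clear_value u v
    have huau : u * a * u⁻¹ = a⁻¹ := by
      rw [← hp', mul_inv_rev, inv_eq_of_mul_eq_one_right huu, inv_eq_of_mul_eq_one_right hvv,
        ← mul_assoc u u v, huu, one_mul]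
    refine Finset.mem_filter.2 ⟨Finset.mem_univ _,
      ti_of_centralizer C I.hC u a ha ha1 (huau ▸ C.inv_mem ha), fun huC => ?_⟩
    have h1 := Subgroup.orderOf_dvd_natCard C huC
    have h2 : orderOf u = 2 := by
      refine orderOf_eq_prime (by rw [sq]; exact huu) fun e => ?_
      rw [hudef] at e
      exact I.z_not ((conj_eq_one_iff.1 e) ▸ C.one_mem)
    rw [h2] at h1
    exact Nat.not_even_iff_odd.2 I.hodd (even_iff_two_dvd.2 h1)
  rw [Finset.card_eq_sum_card_fiberwise (f := fun p : G × G => p.1 * I.z * p.1⁻¹) (t := S) hmaps]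
  have hfib : ∀ u ∈ S, (((Finset.univ ×ˢ Finset.univ).filter fun p : G × G =>
      p.1 * I.z * p.1⁻¹ * (p.2 * I.z * p.2⁻¹) = a).filter fun p : G × G =>
        p.1 * I.z * p.1⁻¹ = u).card = I.c * I.c := by
    intro u huS
    obtain ⟨h1, h2, h3⟩ := hu u huS
    rw [show ((Finset.univ ×ˢ Finset.univ).filter fun p : G × G =>
        p.1 * I.z * p.1⁻¹ * (p.2 * I.z * p.2⁻¹) = a).filter
          (fun p : G × G => p.1 * I.z * p.1⁻¹ = u) =
        (Finset.univ.filter fun g : G => g * I.z * g⁻¹ = u) ×ˢ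
          (Finset.univ.filter fun g : G => g * I.z * g⁻¹ = u * a) from ?_,
      Finset.card_product, card_conj_eq _ _ h1, card_conj_eq _ _ h2]
    · rfl
    · have huu : u * u = 1 := by
        rw [← mul_assoc, mul_eq_right] at h3; exact h3
      ext ⟨g, h⟩
      simp only [Finset.mem_filter, Finset.mem_product, Finset.mem_univ, true_and]
      constructor
      · rintro ⟨e1, e2⟩
        refine ⟨e2, ?_⟩
        rw [e2] at e1
        calc h * I.z * h⁻¹ = u * u * (h * I.z * h⁻¹) := by rw [huu, one_mul]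
          _ = u * a := by rw [mul_assoc, e1]
      · rintro ⟨e1, e2⟩
        exact ⟨by rw [e1, e2, h3], e1⟩
  rw [Finset.sum_congr rfl hfib, Finset.sum_const, smul_eq_mul]
  have hS' : S.card = Nat.card C := by
    have e1 : S = (Finset.univ.filter fun g : G => g ∈ N) \ (Finset.univ.filter fun g : G => g ∈ C) := by
      ext g; simp [hS]
    have e2 : (Finset.univ.filter fun g : G => g ∈ C) ⊆ (Finset.univ.filter fun g : G => g ∈ N) :=
      fun g hg => by
        simp only [Finset.mem_filter, Finset.mem_univ, true_and] at hg ⊢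
        exact Subgroup.le_normalizer hg
    rw [e1, Finset.card_sdiff_of_subset e2, ← Fintype.card_subtype, ← Fintype.card_subtype,
      ← Nat.card_eq_fintype_card, ← Nat.card_eq_fintype_card,
      show Nat.card {g : G // g ∈ N} = 2 * Nat.card C from cc_card_normalizer I.idx]
    show 2 * Nat.card C - Nat.card C = Nat.card C
    omega
  rw [hS', mul_assoc]

/-- The value of the class sum. -/
theorem sum_eval {x y a : G} (ha : a ∈ C) (ha1 : a ≠ 1) {p q : ℤ} (hx : x ∉ conjSet C)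
    (hy : y ∉ conjSet C) (hp : (I.F.st : G → ℂ) x = p) (hq : (I.F.st : G → ℂ) y = q) :
    (∑ χ : Cfsg.IrrCharacter G, (Nat.card G : ℂ) ^ 2 * (χ : G → ℂ) a⁻¹ * (χ : G → ℂ) x *
      (χ : G → ℂ) y / (χ : G → ℂ) 1) * ((I.D : ℂ) * I.F.col.f) =
      (Nat.card G : ℂ) ^ 2 * (((I.D : ℤ) - p) * ((I.D : ℤ) - q) : ℤ) := by
  have hc : (⟨a⁻¹, C.inv_mem ha⟩ : C) ≠ 1 := fun e => ha1 (inv_eq_one.1 (congrArg Subtype.val e))
  set X := I.F.col with hX
  have hsplit : Finset.univ \ X.A =
      insert (oneChar G) (insert I.F.st (((Finset.univ \ X.A).erase (oneChar G)).erase I.F.st)) := by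
    rw [Finset.insert_erase (Finset.mem_erase.2 ⟨I.F.st_ne, Finset.mem_sdiff.2
      ⟨Finset.mem_univ _, I.F.st_not⟩⟩), Finset.insert_erase (Finset.mem_sdiff.2
      ⟨Finset.mem_univ _, X.one_not_mem⟩)]
  rw [← Finset.sum_sdiff (Finset.subset_univ X.A), hsplit,
    Finset.sum_insert (by simp [Finset.mem_insert, I.F.st_ne.symm]),
    Finset.sum_insert (by simp),
    Finset.sum_eq_zero (s := ((Finset.univ \ X.A).erase (oneChar G)).erase I.F.st) fun χ hχ => ?_,
    add_zero, oneChar_apply, oneChar_apply, oneChar_apply, oneChar_apply,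
    X.val _ I.F.st_not ⟨a⁻¹, C.inv_mem ha⟩ hc, I.F.dd_st, hp, hq, dg_spec,
    Finset.sum_congr rfl (g := fun χ : Cfsg.IrrCharacter G =>
      (Nat.card G : ℂ) ^ 2 / (X.f : ℂ) * ((I.F.δ + p) * (I.F.δ + q)) * (χ : G → ℂ) a⁻¹)
      fun χ hχ => ?_, ← Finset.mul_sum, X.total ⟨a⁻¹, C.inv_mem ha⟩ hc]
  · have hμ : (X.k : ℂ) * X.d - X.ε = -(I.F.δ : ℂ) := by exact_mod_cast I.F.mu
    have hf : (X.f : ℂ) ≠ 0 := Nat.cast_ne_zero.2 (by have := I.f_pos; rw [hX]; omega)
    have hD : (I.D : ℂ) ≠ 0 := Nat.cast_ne_zero.2 (by have := I.D_pos; omega)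
    have hfe : (X.f : ℂ) = (I.D : ℂ) + I.F.δ := by exact_mod_cast I.f_eq
    have hδ2 : (I.F.δ : ℂ) * I.F.δ = 1 := by rcases I.F.hδ with e | e <;> rw [e] <;> norm_num
    rw [hμ]
    simp only [InvData.D] at hD hfe ⊢
    push_cast
    field_simp
    rcases I.F.hδ with e | e <;> rw [e] at hfe ⊢ <;> rw [hfe] <;> push_cast <;> ring
  · rw [X.deg χ hχ, I.F.val χ hχ x hx, I.F.val χ hχ y hy, hp, hq]
    ring
  · rw [Finset.mem_erase, Finset.mem_erase, Finset.mem_sdiff] at hχ
    rw [X.val χ hχ.2.2.2 ⟨a⁻¹, C.inv_mem ha⟩ hc, I.F.dd_zero χ hχ.2.2.2 hχ.2.1 hχ.1]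
    simp

/-- The class product formula. -/
theorem formula : (Nat.card C : ℤ) * (I.c : ℤ) ^ 2 * I.F.col.f * I.D =
    (Nat.card G : ℤ) * ((I.D : ℤ) - I.s) ^ 2 := by
  obtain ⟨a, ha⟩ := I.F.col.exists_c (by norm_num) (by have := I.two_le; omega)
  have ha1 : (a : G) ≠ 1 := fun e => ha (Subtype.ext e)
  have h := congrArg (fun t : ℂ => t * ((I.D : ℂ) * I.F.col.f))
    (class_product I.z I.z (a : G))
  rw [I.sum_eval a.2 ha1 I.z_out I.z_out I.z_val I.z_val, I.pairs_count a.2 ha1] at h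
  have hG : (Nat.card G : ℤ) ≠ 0 := Int.natCast_ne_zero.2 Nat.card_pos.ne'
  apply mul_left_cancel₀ hG
  have : (((Nat.card G : ℤ) * ((Nat.card C : ℤ) * (I.c : ℤ) ^ 2 * I.F.col.f * I.D) : ℤ) : ℂ) =
      (((Nat.card G : ℤ) * ((Nat.card G : ℤ) * ((I.D : ℤ) - I.s) ^ 2) : ℤ) : ℂ) := by
    push_cast at h ⊢
    linear_combination h
  exact_mod_cast this

variable [IsSimpleGroup G]

theorem st_ne_D {w : G} (hw : w ≠ 1) : (I.F.st : G → ℂ) w ≠ (I.D : ℂ) := fun h =>
  I.F.st_ne (Inv59.EightChar.eq_one_of_apply_eq hw I.F.st (by rw [h, dg_spec]; rfl))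

theorem s_ne_D : I.s ≠ I.D := fun h => I.st_ne_D
  (show I.z ≠ 1 from fun e => I.z_not (by rw [e]; exact C.one_mem))
  (by rw [I.z_val, h, Int.cast_natCast])

/-- There is only one class of involutions. -/
theorem one_class {w : G} (hw : orderOf w = 2) : IsConj I.z w := by
  by_contra hne
  obtain ⟨a, ha⟩ := I.F.col.exists_c (by norm_num) (by have := I.two_le; omega)
  have ha1 : (a : G) ≠ 1 := fun e => ha (Subtype.ext e)
  obtain ⟨t, ht, -⟩ := apply_involution I.F.st hw
  have hzero : ((Finset.univ ×ˢ Finset.univ).filter fun p : G × G =>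
      p.1 * I.z * p.1⁻¹ * (p.2 * w * p.2⁻¹) = (a : G)).card = 0 := by
    rw [Finset.card_eq_zero, Finset.filter_eq_empty_iff]
    rintro ⟨g, h⟩ - hp
    simp only at hp
    set u := g * I.z * g⁻¹ with hudef
    set v := h * w * h⁻¹ with hvdef
    have hw2 : w * w = 1 := by rw [← sq, ← hw, pow_orderOf_eq_one]
    have huu : u * u = 1 := by
      rw [hudef]; calc g * I.z * g⁻¹ * (g * I.z * g⁻¹) = g * (I.z * I.z) * g⁻¹ := by group
        _ = 1 := by rw [I.z_sq]; group
    have hvv : v * v = 1 := by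
      rw [hvdef]; calc h * w * h⁻¹ * (h * w * h⁻¹) = h * (w * w) * h⁻¹ := by group
        _ = 1 := by rw [hw2]; group
    clear_value u v
    have hvav : v * (a : G) * v⁻¹ = (a : G)⁻¹ := by
      rw [← hp, mul_inv_rev, inv_eq_of_mul_eq_one_right huu, inv_eq_of_mul_eq_one_right hvv]
      simp only [mul_assoc, hvv, mul_one]
    have hvN := ti_of_centralizer C I.hC v a a.2 ha1 (hvav ▸ C.inv_mem a.2)
    have hv1 : orderOf v = 2 := by
      rw [hvdef, show h * w * h⁻¹ = MulAut.conj h w from rfl, MulEquiv.orderOf_eq, hw]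
    have hvC : v ∉ C := fun hm => by
      have h1 := Subgroup.orderOf_dvd_natCard C hm
      rw [hv1] at h1
      exact Nat.not_even_iff_odd.2 I.hodd (even_iff_two_dvd.2 h1)
    obtain ⟨b, -, hb⟩ := I.z_conj v hvN hvC
    exact hne ((isConj_iff.2 ⟨b, hb.symm⟩).trans (isConj_iff.2 ⟨h, hvdef.symm⟩).symm)
  have h := congrArg (fun t : ℂ => t * ((I.D : ℂ) * I.F.col.f)) (class_product I.z w (a : G))
  rw [I.sum_eval a.2 ha1 I.z_out (involution_not_mem I.hodd hw) I.z_val ht, hzero, Nat.cast_zero,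
    mul_zero, zero_mul, eq_comm, mul_eq_zero] at h
  rcases h with h | h
  · exact Nat.cast_ne_zero.2 Nat.card_pos.ne' (pow_eq_zero_iff two_ne_zero |>.1 h)
  have h' : ((I.D : ℤ) - I.s) * ((I.D : ℤ) - t) = 0 := by exact_mod_cast h
  rcases mul_eq_zero.1 h' with h1 | h1
  · exact I.s_ne_D (by omega)
  · exact I.st_ne_D (show w ≠ 1 from fun e => by rw [e, orderOf_one] at hw; norm_num at hw)
      (by rw [ht, show t = (I.D : ℤ) by omega, Int.cast_natCast])

/-- The centraliser of an involution contains a Sylow 2-subgroup. -/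
theorem exists_sylow : ∃ S : Sylow 2 G, Nat.card (S : Subgroup G) ∣ I.c ∧
    ¬ 2 ∣ (Subgroup.centralizer ({I.z} : Set G)).index := by
  haveI : Fact (Nat.Prime 2) := ⟨Nat.prime_two⟩
  obtain ⟨T⟩ := (inferInstance : Nonempty (Sylow 2 G))
  have h2 : 2 ∣ Nat.card (T : Subgroup G) := T.dvd_card_of_dvd_card
    (I.z_order ▸ orderOf_dvd_natCard I.z)
  haveI : Nontrivial (T : Subgroup G) :=
    Finite.one_lt_card_iff_nontrivial.1 (Nat.le_of_dvd Nat.card_pos h2)
  haveI := T.isPGroup'.center_nontrivial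
  obtain ⟨w, hw⟩ := exists_prime_orderOf_dvd_card' 2
    (show 2 ∣ Nat.card (Subgroup.center (T : Subgroup G)) by
      obtain ⟨i, hi⟩ := (T.isPGroup'.to_subgroup (Subgroup.center (T : Subgroup G))).exists_card_eq
      rcases i with _ | i
      · exact absurd hi (by rw [pow_zero]; exact Finite.one_lt_card.ne')
      · rw [hi]; exact dvd_pow_self 2 i.succ_ne_zero)
  have hw' : orderOf ((w : (T : Subgroup G)) : G) = 2 := by
    rw [Subgroup.orderOf_coe, Subgroup.orderOf_coe, hw]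
  obtain ⟨g, hg⟩ := isConj_iff.1 (I.one_class hw').symm
  have hle : ((g • T : Sylow 2 G) : Subgroup G) ≤ Subgroup.centralizer ({I.z} : Set G) := by
    intro x hx
    rw [Sylow.coe_subgroup_smul, Subgroup.mem_pointwise_smul_iff_inv_smul_mem, MulAut.smul_def,
      ← map_inv, MulAut.conj_apply, inv_inv] at hx
    have hc := congrArg Subtype.val (Subgroup.mem_center_iff.1 w.2 ⟨_, hx⟩)
    simp only [Subgroup.coe_mul] at hc
    rw [Subgroup.mem_centralizer_singleton_iff, ← hg]
    calc x * (g * ((w : (T : Subgroup G)) : G) * g⁻¹)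
        = g * (g⁻¹ * x * g * ((w : (T : Subgroup G)) : G)) * g⁻¹ := by group
      _ = g * (((w : (T : Subgroup G)) : G) * (g⁻¹ * x * g)) * g⁻¹ := by rw [hc]
      _ = g * ((w : (T : Subgroup G)) : G) * g⁻¹ * x := by group
  exact ⟨g • T, Subgroup.card_dvd_of_le hle, fun h =>
    (g • T : Sylow 2 G).not_dvd_index (h.trans (Subgroup.index_dvd_of_le hle))⟩

omit [IsSimpleGroup G] in
/-- The sums over the normaliser. -/
theorem normalizer_bound : (Nat.card C : ℤ) * |I.s| ≤ I.D + ((Nat.card C : ℤ) - 1) * I.F.δ := by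
  set N := Subgroup.normalizer (C : Set G) with hN
  obtain ⟨μ, hμ⟩ := exists_sign I.idx
  have key : ∀ (θ : N →* ℂˣ) (σ : ℤ), (∀ x : N, (θ x : ℂ) = if (x : G) ∈ C then 1 else (σ : ℂ)) →
      (σ = 1 ∨ σ = -1) → 0 ≤ (I.D : ℤ) + ((Nat.card C : ℤ) - 1) * I.F.δ + σ * (Nat.card C * I.s) := by
    intro θ σ hθ hσ
    obtain ⟨t, ht⟩ := exists_classInner_nat (isCharacter_comp N.subtype (isCharacter_irr I.F.st))
      (isCharacter_irr (Characters.Linear.linChar θ))
    rw [Cfsg.classInner, inv_mul_eq_iff_eq_mul₀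
      (Nat.cast_ne_zero.2 (Nat.card_pos (α := N)).ne')] at ht
    have hval : ∀ x : N, (I.F.st : G → ℂ) (x : G) * conj ((θ x : ℂˣ) : ℂ) =
        if (x : G) ∈ C then (if x = 1 then (I.D : ℂ) else I.F.δ) else (σ : ℂ) * I.s := by
      intro x
      rw [hθ]
      split_ifs with hx hx1
      · rw [hx1, OneMemClass.coe_one, dg_spec, map_one, mul_one]; rfl
      · rw [I.F.col.val _ I.F.st_not ⟨x, hx⟩ (fun e => hx1 (Subtype.ext
          (congrArg (fun c : C => (c : G)) e))), I.F.dd_st, map_one, mul_one]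
      · obtain ⟨b, -, hb⟩ := I.z_conj x x.2 hx
        rw [hb, isClassFunction_irr I.F.st I.z b, I.z_val, map_intCast, mul_comm]
    simp only [Function.comp_apply, Subgroup.coe_subtype, Characters.Linear.linChar_apply] at ht
    rw [Finset.sum_congr rfl fun x _ => hval x, Finset.sum_ite, Finset.sum_const, nsmul_eq_mul,
      ← Finset.add_sum_erase _ _ (Finset.mem_filter.2 ⟨Finset.mem_univ (1 : N), C.one_mem⟩),
      if_pos rfl, Finset.sum_congr rfl (g := fun _ => (I.F.δ : ℂ)) fun x hx => if_neg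
        (Finset.mem_erase.1 hx).1, Finset.sum_const, nsmul_eq_mul,
      Finset.card_erase_of_mem (Finset.mem_filter.2 ⟨Finset.mem_univ (1 : N), C.one_mem⟩)] at ht
    have hA : (Finset.univ.filter fun x : N => (x : G) ∈ C).card = Nat.card C := by
      rw [← Fintype.card_subtype, ← Nat.card_eq_fintype_card]
      exact Nat.card_congr (Subgroup.subgroupOfEquivOfLe Subgroup.le_normalizer).toEquiv
    have hB : (Finset.univ.filter fun x : N => ¬ (x : G) ∈ C).card = Nat.card C := by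
      have h := Finset.card_filter_add_card_filter_not (s := (Finset.univ : Finset N))
        (fun x : N => (x : G) ∈ C)
      rw [hA, Finset.card_univ, ← Nat.card_eq_fintype_card, cc_card_normalizer I.idx] at h
      omega
    rw [hA, hB, cc_card_normalizer I.idx] at ht
    have hn : 1 ≤ Nat.card C := Nat.card_pos
    have h' : (I.D : ℤ) + ((Nat.card C : ℤ) - 1) * I.F.δ + σ * (Nat.card C * I.s) =
        2 * Nat.card C * t := by
      have : (((I.D : ℤ) + ((Nat.card C : ℤ) - 1) * I.F.δ + σ * (Nat.card C * I.s) : ℤ) : ℂ) =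
          ((2 * Nat.card C * t : ℤ) : ℂ) := by
        push_cast [Nat.cast_sub hn] at ht ⊢
        linear_combination ht
      exact_mod_cast this
    rw [h']; positivity
  have h1 := key 1 1 (fun x => by simp) (Or.inl rfl)
  have h2 := key μ (-1) (fun x => by rw [hμ]; norm_num) (Or.inr rfl)
  rcases abs_choice I.s with e | e <;> rw [e] <;> nlinarith

omit [IsSimpleGroup G] in
/-- The norm of the column of the involution. -/
theorem norm_bound : 1 + I.s ^ 2 + (I.F.col.k : ℤ) * (I.F.δ + I.s) ^ 2 ≤ I.c := by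
  have h := Characters.Complete.sum_irr_mul_conj I.z I.z
  rw [if_pos (IsConj.refl _)] at h
  simp only [Complex.mul_conj] at h
  have h' : ∑ χ : Cfsg.IrrCharacter G, Complex.normSq ((χ : G → ℂ) I.z) = (I.c : ℝ) := by
    exact_mod_cast h
  have hsub : insert (oneChar G) (insert I.F.st I.F.col.A) ⊆ Finset.univ := Finset.subset_univ _
  have hle := Finset.sum_le_sum_of_subset_of_nonneg
    (f := fun χ : Cfsg.IrrCharacter G => Complex.normSq ((χ : G → ℂ) I.z)) hsub
    fun _ _ _ => Complex.normSq_nonneg _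
  rw [Finset.sum_insert (by simp [Finset.mem_insert, I.F.st_ne.symm, I.F.col.one_not_mem]),
    Finset.sum_insert I.F.st_not, oneChar_apply, map_one, I.z_val, h',
    Finset.sum_congr rfl (g := fun _ => ((I.F.δ : ℝ) + I.s) ^ 2) fun χ hχ => by
      rw [I.F.val χ hχ _ I.z_out, I.z_val,
        show (I.F.δ : ℂ) + (I.s : ℂ) = (((I.F.δ : ℝ) + I.s : ℝ) : ℂ) by push_cast; rfl,
        Complex.normSq_ofReal, sq],
    Finset.sum_const, I.F.col.card, nsmul_eq_mul,
    show (I.s : ℂ) = ((I.s : ℝ) : ℂ) by simp, Complex.normSq_ofReal, ← sq] at hle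
  have : (((1 + I.s ^ 2 + (I.F.col.k : ℤ) * (I.F.δ + I.s) ^ 2) : ℤ) : ℝ) ≤ ((I.c : ℤ) : ℝ) := by
    push_cast
    linarith
  exact_mod_cast this

end InvData

end Cfsg.Agent.Lib.SuzukiSystem68
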