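import Cfsg.Agent.Lib.SuzukiSystem68.Classes
import Cfsg.Agent.Lib.CITSuzuki.Classification
import Cfsg.Agent.Lib.CITSuzuki.Orders
import Cfsg.Agent.Lib.Linear.Order

/-!
# Recognition of the Suzuki groups

Owner: helper68.
-/

set_option autoImplicit false
set_option linter.unusedSectionVars false

namespace Cfsg.Agent.Lib.SuzukiSystem68

open scoped Classical
open Cfsg.Agent.Lib.SzDegrees
open Cfsg.Agent.Lib.SzTori (conjSet)

universe u

variable {G : Type u} [Group G] [Fintype G]

/-- The order of an element sharing a prime with a CC subgroup divides its order. -/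
theorem orderOf_dvd_of_common {C : Subgroup G} (hC : IsCC C) {y : G} {p : ℕ} (hp : p.Prime)
    (hy : p ∣ orderOf y) (hpC : p ∣ Nat.card C) : orderOf y ∣ Nat.card C := by
  haveI := Fact.mk hp
  obtain ⟨T, hT⟩ := cc_sylow_le hC hpC
  set x := y ^ (orderOf y / p)
  have hxo : orderOf x = p := orderOf_pow_orderOf_div (orderOf_pos y).ne' hy
  obtain ⟨U, hU⟩ := (IsPGroup.of_card (G := Subgroup.zpowers x) (p := p) (n := 1)
    (by rw [Nat.card_zpowers, hxo, pow_one])).exists_le_sylow
  obtain ⟨g, rfl⟩ := MulAction.exists_smul_eq G T U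
  have hxT := hU (Subgroup.mem_zpowers x)
  rw [Sylow.coe_subgroup_smul, Subgroup.mem_pointwise_smul_iff_inv_smul_mem, MulAut.smul_def,
    ← map_inv, MulAut.conj_apply, inv_inv] at hxT
  have hne : g⁻¹ * x * g ≠ 1 := fun e => by
    have : x = 1 := by
      calc x = g * (g⁻¹ * x * g) * g⁻¹ := by group
        _ = 1 := by rw [e]; group
    rw [this, orderOf_one] at hxo
    exact hp.one_lt.ne hxo
  have hyC : g⁻¹ * y * g ∈ C := by
    rw [← hC _ (hT hxT) hne, Subgroup.mem_centralizer_singleton_iff]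
    calc g⁻¹ * y * g * (g⁻¹ * x * g) = g⁻¹ * (y * x) * g := by group
      _ = g⁻¹ * (x * y) * g := by rw [((Commute.refl y).pow_right _).eq]
      _ = g⁻¹ * x * g * (g⁻¹ * y * g) := by group
  have h2 := Subgroup.orderOf_dvd_natCard C hyC
  rwa [show g⁻¹ * y * g = MulAut.conj g⁻¹ y by simp, MulEquiv.orderOf_eq] at h2

namespace Sys244

variable (S : Sys244 G)
include S

/-- Two orders of elements cannot account for the three orders. -/
theorem two_factors_false {w₁ w₂ : ℕ} (h₁ : ∃ y : G, orderOf y = w₁) (h₂ : ∃ y : G, orderOf y = w₂)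
    (hp : ∀ p : ℕ, p.Prime → Odd p → p ∣ Nat.card G → p ∣ w₁ ∨ p ∣ w₂) : False := by
  obtain ⟨y₁, rfl⟩ := h₁
  obtain ⟨y₂, rfl⟩ := h₂
  have pick : ∀ C : Subgroup G, IsCC C → Odd (Nat.card C) → 2 ≤ Nat.card C →
      ∃ p : ℕ, p.Prime ∧ p ∣ Nat.card C ∧ (p ∣ orderOf y₁ ∨ p ∣ orderOf y₂) := by
    intro C hC ho h2
    obtain ⟨p, hpp, hpd⟩ := Nat.exists_prime_and_dvd (show Nat.card C ≠ 1 by omega)
    exact ⟨p, hpp, hpd, hp p hpp (Odd.of_dvd_nat ho hpd) (hpd.trans (Subgroup.card_subgroup_dvd_card C))⟩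
  obtain ⟨p₁, hp₁, d₁, e₁⟩ := pick S.A₁ S.hC₁ S.odd₁ (by have := S.five_le; omega)
  obtain ⟨p₂, hp₂, d₂, e₂⟩ := pick S.A₂ S.hC₂ S.odd₂ (by have := S.six_le₂; omega)
  obtain ⟨p₃, hp₃, d₃, e₃⟩ := pick S.A₃ S.hC₃ S.odd₃ (by have := S.six_le₃; omega)
  have key : ∀ (C C' : Subgroup G), IsCC C → IsCC C' → (Nat.card C).Coprime (Nat.card C') →
      ∀ (p p' : ℕ), p.Prime → p'.Prime → p ∣ Nat.card C → p' ∣ Nat.card C' →
      ∀ y : G, p ∣ orderOf y → p' ∣ orderOf y → False := by
    intro C C' hC hC' hcop p p' hp hp' hd hd' y hy hy'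
    exact hp.ne_one (Nat.eq_one_of_dvd_coprimes hcop hd
      (hy.trans (orderOf_dvd_of_common hC' hp' hy' hd')))
  rcases e₁ with a | a <;> rcases e₂ with b | b <;> rcases e₃ with c | c <;>
    first
      | exact key _ _ S.hC₁ S.hC₂ S.cop₁₂ _ _ hp₁ hp₂ d₁ d₂ _ a b
      | exact key _ _ S.hC₁ S.hC₃ S.cop₁₃ _ _ hp₁ hp₃ d₁ d₃ _ a c
      | exact key _ _ S.hC₂ S.hC₃ S.cop₂₃ _ _ hp₂ hp₃ d₂ d₃ _ b c

/-- The group is a Suzuki group. -/
theorem isoSuzuki [IsSimpleGroup G] (hna : ∃ a b : G, a * b ≠ b * a) :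
    Cfsg.Lie.IsoSuzuki G := by
  haveI : Fintype (Cfsg.IrrCharacter G) := Fintype.ofFinite _
  obtain ⟨K⟩ := S.exists_cols
  have hcit : ∀ t : G, orderOf t = 2 → IsPGroup 2 (Subgroup.centralizer ({t} : Set G)) := by
    intro t ht
    have hc : Nat.card (Subgroup.centralizer ({t} : Set G)) = K.I.c := by
      obtain ⟨g, rfl⟩ := isConj_iff.1 (K.I.one_class ht)
      rw [SzTori.centralizer_conj, Subgroup.card_map_of_injective (MulAut.conj g).injective]
      rfl
    have hc0 : 0 < K.I.c := Nat.card_pos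
    exact IsPGroup.of_card (n := K.I.c.primeFactorsList.length) (by
      rw [hc]
      exact Nat.eq_prime_pow_of_unique_prime_dvd hc0.ne' fun {q} hq hqd => K.prime_dvd_c hq hqd)
  have hN : 1053 ≤ S.N := by
    have h := Nat.mul_le_mul S.nine_le₁ S.P_ge
    simp only [N] at *
    rw [mul_assoc]; omega
  rcases CITSuzuki.simpleCITClass G hna hcit with ⟨F, iF, iT, hF, ⟨e⟩⟩ | ⟨F, iF, iT, hF, ⟨e⟩⟩ | h
  · exfalso
    have hcard := Nat.card_congr e.toEquiv
    have hord : ∀ k, (∃ x : Matrix.ProjectiveSpecialLinearGroup (Fin 2) F, orderOf x = k) →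
        ∃ y : G, orderOf y = k := fun k ⟨x, hx⟩ => ⟨e.symm x, by rw [MulEquiv.orderOf_eq, hx]⟩
    have hdvd : Nat.card G ∣ Fintype.card F * (Fintype.card F - 1) * (Fintype.card F + 1) := by
      rw [hcard, ← Linear.gcd_mul_card_PSL_two]
      exact dvd_mul_left _ _
    rcases hF with h9 | ⟨n, hn⟩ | ⟨hp, k, hk⟩
    · rw [h9] at hdvd
      have := Nat.le_of_dvd (by norm_num) (S.N_dvd.trans hdvd)
      omega
    · have heven : Even (Fintype.card F) := by
        rcases n with _ | n
        · exact absurd hn (by rw [pow_zero]; exact Fintype.one_lt_card.ne')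
        · rw [hn, pow_succ]; exact even_two.mul_left _
      obtain ⟨hm, hp⟩ := CITSuzuki.Orders.psl_two_even heven
      refine S.two_factors_false (hord _ hm) (hord _ hp) fun p hpp hpo hpd => ?_
      rcases hpp.dvd_mul.1 (hpd.trans hdvd) with h | h
      · rcases hpp.dvd_mul.1 h with h | h
        · rw [hn] at h
          have := (Nat.prime_dvd_prime_iff_eq hpp Nat.prime_two).1 (hpp.dvd_of_dvd_pow h)
          subst this
          exact absurd hpo (by decide)
        · exact Or.inl h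
      · exact Or.inr h
    · have hodd : Odd (Fintype.card F) := by
        rcases hp.eq_two_or_odd' with h | h
        · rw [h] at hdvd
          have := Nat.le_of_dvd (by norm_num) (S.N_dvd.trans hdvd)
          omega
        · exact h
      haveI := Fact.mk hp
      obtain ⟨⟨xm, hm1, -⟩, ⟨xp, hp1, -⟩⟩ := CITSuzuki.Orders.psl_two_odd hodd
      obtain ⟨t, ht⟩ := hodd
      have hFG : Fintype.card F ∣ Nat.card (Matrix.ProjectiveSpecialLinearGroup (Fin 2) F) := by
        have h := Linear.two_mul_card_PSL_two_of_odd (F := F) ⟨t, ht⟩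
        refine ((Nat.coprime_two_right).2 ⟨t, ht⟩).dvd_of_dvd_mul_left ⟨(Fintype.card F - 1) * (Fintype.card F + 1), ?_⟩
        rw [h, mul_assoc]
      obtain ⟨xq, hxq⟩ := exists_prime_orderOf_dvd_card' (Fintype.card F) hFG
      have hpow : ∀ (x : Matrix.ProjectiveSpecialLinearGroup (Fin 2) F) (w : ℕ), w ∣ orderOf x →
          ∃ x' : Matrix.ProjectiveSpecialLinearGroup (Fin 2) F, orderOf x' = w := fun x w hw =>
        ⟨_, orderOf_pow_orderOf_div (orderOf_pos x).ne' hw⟩
      rcases hk with hk | hk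
      · refine S.two_factors_false (hord _ ⟨xq, hxq⟩) (hord _ (hpow xp _ hp1)) fun p hpp hpo hpd => ?_
        have hp2 : ¬ p ∣ 2 := fun h => by
          have := (Nat.prime_dvd_prime_iff_eq hpp Nat.prime_two).1 h
          subst this; exact absurd hpo (by decide)
        rcases hpp.dvd_mul.1 (hpd.trans hdvd) with h | h
        · rcases hpp.dvd_mul.1 h with h | h
          · exact Or.inl h
          · rw [hk, Nat.add_sub_cancel] at h
            exact absurd (hpp.dvd_of_dvd_pow h) hp2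
        · right
          refine (hpp.dvd_mul.1 (?_ : p ∣ (Fintype.card F + 1) / 2 * 2)).resolve_right hp2
          rwa [Nat.div_mul_cancel ⟨t + 1, by omega⟩]
      · refine S.two_factors_false (hord _ ⟨xq, hxq⟩) (hord _ (hpow xm _ hm1)) fun p hpp hpo hpd => ?_
        have hp2 : ¬ p ∣ 2 := fun h => by
          have := (Nat.prime_dvd_prime_iff_eq hpp Nat.prime_two).1 h
          subst this; exact absurd hpo (by decide)
        rcases hpp.dvd_mul.1 (hpd.trans hdvd) with h | h
        · rcases hpp.dvd_mul.1 h with h | h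
          · exact Or.inl h
          · right
            refine (hpp.dvd_mul.1 (?_ : p ∣ (Fintype.card F - 1) / 2 * 2)).resolve_right hp2
            rwa [Nat.div_mul_cancel ⟨t, by omega⟩]
        · rw [hk] at h
          exact absurd (hpp.dvd_of_dvd_pow h) hp2
  · exfalso
    have h1 := Linear.sub_one_mul_card_SL (F := F) 3 (by norm_num)
    have h2 := Linear.card_SL_eq_gcd_mul_card_PSL (ι := Fin 3) (F := F)
    rw [hF, Fin.prod_univ_three] at h1
    rw [Fintype.card_fin, Nat.card_eq_fintype_card (α := F), hF,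
      show Nat.gcd 3 (4 - 1) = 3 by decide] at h2
    rw [h2] at h1
    have hG : Nat.card G = 2 ^ 6 * 315 := by
      rw [Nat.card_congr e.toEquiv]; norm_num at h1 ⊢; omega
    have h3 : S.N ∣ 2 ^ 6 * 315 := hG ▸ S.N_dvd
    have h4 : S.N ∣ 315 := ((Nat.coprime_two_right.2 S.odd_N).pow_right 6).dvd_of_dvd_mul_left h3
    have := Nat.le_of_dvd (by norm_num) h4
    omega
  · exact h

end Sys244

end Cfsg.Agent.Lib.SuzukiSystem68
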