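import Mathlib

/-!
# The orders five and seven

Owner: helper68.
-/

set_option autoImplicit false

namespace Cfsg.Agent.Lib.SuzukiSystem68

/-- No centraliser order fits. -/
def noCent (n1 M G D f m : ℕ) (δ s : ℤ) : Bool :=
  let num := G * ((D : ℤ) - s).natAbs ^ 2
  let den := n1 * f * D
  let q := num / den
  decide (num % den ≠ 0) || decide (4 * G < q * M) ||
    decide (q < (1 + s ^ 2 + ((n1 - 1) / 2 : ℕ) * (δ + s) ^ 2).natAbs ^ 2) ||
    decide (Nat.sqrt q * Nat.sqrt q ≠ q) || decide (m % Nat.sqrt q ≠ 0) ||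
    decide ((m / Nat.sqrt q) % 2 = 0)

/-- No order fits. -/
def noOrder (n1 N M D f : ℕ) (δ : ℤ) : Bool :=
  let L := Nat.lcm (D / Nat.gcd D N) (f / Nat.gcd f N)
  (List.range (3 * N / L)).all fun i =>
    let m := L * (i + 1)
    decide (m % 4 ≠ 0) || decide (Nat.gcd m N ≠ 1) ||
      decide (N * m < 1 + D * D + ((n1 - 1) / 2) * (f * f)) ||
      let S := ((D : ℤ) + ((n1 : ℤ) - 1) * δ).toNat / n1
      (List.range (2 * S + 1)).all fun j => noCent n1 M (N * m) D f m δ ((j : ℤ) - S)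

/-- A bound for the degree. -/
def degBound (n1 N M : ℕ) : ℕ :=
  if 4 * n1 ^ 3 < (n1 - 1) ^ 2 * M then
    min (2 * N) ((2 * (n1 - 1) ^ 2 * M + 4 * n1 ^ 3) / ((n1 - 1) ^ 2 * M - 4 * n1 ^ 3))
  else 2 * N

/-- No degree fits. -/
def noDegree (n1 N M : ℕ) : Bool :=
  (List.range (degBound n1 N M + 1)).all fun D => decide (D < 2) ||
    ((decide ((D + n1 - 1) % n1 ≠ 0) || noOrder n1 N M D (D + 1) 1) &&
      (decide ((D + 1) % n1 ≠ 0) || noOrder n1 N M D (D - 1) (-1)))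

/-- The finite check for a fixed first order. -/
def noTriple (n1 : ℕ) : Bool :=
  (List.range 13).all fun a => (List.range 13).all fun b =>
    decide (b ≤ a) || decide (Nat.gcd n1 (9 + 4 * a) ≠ 1) || decide (Nat.gcd n1 (9 + 4 * b) ≠ 1) ||
      decide (Nat.gcd (9 + 4 * a) (9 + 4 * b) ≠ 1) ||
      noDegree n1 (n1 * (9 + 4 * a) * (9 + 4 * b)) (2 * n1 + (9 + 4 * a) + (9 + 4 * b) - 4)

theorem noTriple_five : noTriple 5 = true := by decide +kernel

theorem noTriple_seven : noTriple 7 = true := by decide +kernel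

/-- The numerical data of a first order five or seven are contradictory. -/
theorem small_false {n1 n2 n3 D f m c : ℕ} {δ s : ℤ} (hn : n1 = 5 ∨ n1 = 7) (h2 : 9 ≤ n2)
    (h23 : n2 < n3) (h2m : n2 % 4 = 1) (h3m : n3 % 4 = 1) (c12 : n1.Coprime n2)
    (c13 : n1.Coprime n3) (c23 : n2.Coprime n3) (hδ : δ = 1 ∨ δ = -1) (hD : 1 ≤ D)
    (hcong : (n1 : ℤ) ∣ (D : ℤ) - δ) (hf : (f : ℤ) = D + δ) (hf1 : 1 ≤ f)
    (hDG : D ∣ n1 * n2 * n3 * m) (hfG : f ∣ n1 * n2 * n3 * m) (hm0 : 0 < m)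
    (hm : m ≤ 3 * (n1 * n2 * n3)) (h4 : 4 ∣ m) (hcop : m.Coprime (n1 * n2 * n3))
    (hsb : (n1 : ℤ) * |s| ≤ D + ((n1 : ℤ) - 1) * δ)
    (hform : (n1 : ℤ) * (c : ℤ) ^ 2 * f * D = ((n1 * n2 * n3 * m : ℕ) : ℤ) * ((D : ℤ) - s) ^ 2)
    (hnorm : 1 + s ^ 2 + (((n1 - 1) / 2 : ℕ) : ℤ) * (δ + s) ^ 2 ≤ c) (hcm : c ∣ m)
    (hodd : ¬ 2 ∣ m / c)
    (hpair : c ^ 2 * (2 * n1 + n2 + n3 - 4) ≤ 4 * (n1 * n2 * n3 * m))
    (hdeg : 1 + D * D + ((n1 - 1) / 2) * (f * f) ≤ n1 * n2 * n3 * m) : False := by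
  obtain ⟨N, hN⟩ : ∃ N, N = n1 * n2 * n3 := ⟨_, rfl⟩
  obtain ⟨M, hM⟩ : ∃ M, M = 2 * n1 + n2 + n3 - 4 := ⟨_, rfl⟩
  rw [← hN] at hDG hfG hm hcop hform hpair hdeg
  rw [← hM] at hpair
  have hn5 : 5 ≤ n1 ∧ n1 ≤ 7 := by omega
  have hN0 : 0 < N := by rw [hN]; exact Nat.mul_pos (Nat.mul_pos (by omega) (by omega)) (by omega)
  have hc1 : 1 ≤ c := Nat.pos_of_dvd_of_pos hcm hm0
  have hs0 : (0 : ℤ) ≤ ((D : ℤ) - s) ^ 2 := sq_nonneg _
  -- the main inequality
  have hmain : 4 * (n1 : ℤ) * f * D ≥ ((D : ℤ) - s) ^ 2 * M := by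
    have hp : (c : ℤ) ^ 2 * M ≤ 4 * ((N * m : ℕ) : ℤ) := by exact_mod_cast hpair
    have hG : (0 : ℤ) < ((N * m : ℕ) : ℤ) := by exact_mod_cast Nat.mul_pos hN0 hm0
    refine le_of_mul_le_mul_left ?_ hG
    calc ((N * m : ℕ) : ℤ) * (((D : ℤ) - s) ^ 2 * M) = (c : ℤ) ^ 2 * M * ((n1 : ℤ) * f * D) := by
          rw [← mul_assoc, ← hform]; ring
      _ ≤ 4 * ((N * m : ℕ) : ℤ) * ((n1 : ℤ) * f * D) :=
          mul_le_mul_of_nonneg_right hp (by positivity)
      _ = _ := by ring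
  have hds : ((n1 : ℤ) - 1) * ((D : ℤ) - 1) ≤ n1 * ((D : ℤ) - s) := by
    have h1 : (n1 : ℤ) * s ≤ n1 * |s| := mul_le_mul_of_nonneg_left (le_abs_self s) (by positivity)
    rcases hδ with rfl | rfl <;> nlinarith
  have hds0 : (0 : ℤ) ≤ ((n1 : ℤ) - 1) * ((D : ℤ) - 1) := by
    apply mul_nonneg <;> omega
  have hineq : ((n1 : ℤ) - 1) ^ 2 * ((D : ℤ) - 1) ^ 2 * M ≤ 4 * (n1 : ℤ) ^ 3 * (D + 1) * D := by
    calc ((n1 : ℤ) - 1) ^ 2 * ((D : ℤ) - 1) ^ 2 * M
        = (((n1 : ℤ) - 1) * ((D : ℤ) - 1)) ^ 2 * M := by ring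
      _ ≤ ((n1 : ℤ) * ((D : ℤ) - s)) ^ 2 * M :=
          mul_le_mul_of_nonneg_right (pow_le_pow_left₀ hds0 hds 2) (by positivity)
      _ = (n1 : ℤ) ^ 2 * (((D : ℤ) - s) ^ 2 * M) := by ring
      _ ≤ (n1 : ℤ) ^ 2 * (4 * (n1 : ℤ) * f * D) := mul_le_mul_of_nonneg_left hmain (by positivity)
      _ ≤ (n1 : ℤ) ^ 2 * (4 * (n1 : ℤ) * ((D : ℤ) + 1) * D) := by
          have : (f : ℤ) ≤ D + 1 := by rcases hδ with rfl | rfl <;> omega
          gcongr
      _ = _ := by ring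
  have hD2 : 2 ≤ D := by
    by_contra hD2
    have hD1 : D = 1 := by omega
    subst hD1
    rcases hδ with rfl | rfl
    · have hn : (n1 : ℤ) * |s| ≤ n1 * 1 := by push_cast at hsb; linarith
      have hs1 : |s| ≤ 1 := le_of_mul_le_mul_left hn (by omega)
      have hs : s = -1 ∨ s = 0 ∨ s = 1 := by
        have := abs_le.1 hs1
        omega
      rw [show f = 2 by omega] at hmain
      push_cast at hmain hform
      rcases hs with rfl | rfl | rfl
      · norm_num at hmain; omega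
      · rw [show f = 2 by omega] at hform
        norm_num at hform
        have h2' : N * m = n2 * (n1 * n3 * m) := by rw [hN]; ring
        have hd : n2 ∣ 2 * n1 * c ^ 2 := by
          have : ((2 * n1 * c ^ 2 : ℕ) : ℤ) = ((N * m : ℕ) : ℤ) := by
            push_cast; linear_combination hform
          exact ⟨_, (Int.natCast_inj.1 this).trans h2'⟩
        have hc2 : n2.Coprime (c ^ 2) := by
          refine Nat.Coprime.pow_right 2 (Nat.Coprime.coprime_dvd_right hcm ?_)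
          exact ((hN ▸ hcop : m.Coprime (n1 * n2 * n3)).coprime_dvd_right
            ((dvd_mul_left n2 n1).trans (dvd_mul_right _ n3))).symm
        have h2d := c12.symm.dvd_of_dvd_mul_right (hc2.dvd_of_dvd_mul_right hd)
        have := Nat.le_of_dvd (by norm_num) h2d
        omega
      · norm_num at hform
        rcases hform with (h | h) | h <;> omega
    · omega
  have hD4 : n1 ≤ D + 1 := by
    rcases hδ with rfl | rfl
    · have h := Int.le_of_dvd (by omega) hcong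
      omega
    · have h := Int.le_of_dvd (by omega) hcong
      omega
  -- bound for the other orders
  have hsum : n3 ≤ 57 := by
    by_contra hc
    have hM' : (66 : ℤ) + 2 * ((n1 : ℤ) - 3) ≤ M := by omega
    rcases hn with rfl | rfl
    · have hD4' : (4 : ℤ) ≤ D := by omega
      push_cast at hineq hM'
      nlinarith [mul_le_mul_of_nonneg_left hM' (sq_nonneg ((D : ℤ) - 1))]
    · have hD4' : (6 : ℤ) ≤ D := by omega
      push_cast at hineq hM'
      nlinarith [mul_le_mul_of_nonneg_left hM' (sq_nonneg ((D : ℤ) - 1))]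
  have hD2N : D ≤ 2 * N := by
    by_contra hc
    have h1 := Nat.mul_le_mul (show 2 * N ≤ D by omega) (show 2 * N ≤ D by omega)
    have h2 := Nat.mul_le_mul_left N hm
    have h3 := Nat.zero_le ((n1 - 1) / 2 * (f * f))
    linarith only [h1, h2, h3, hdeg, show 2 * N * (2 * N) = 4 * (N * N) by ring,
      show N * (3 * N) = 3 * (N * N) by ring, Nat.zero_le (N * N)]
  have hDb : D ≤ degBound n1 N M := by
    rw [degBound]
    split_ifs with hK
    · refine le_min hD2N ((Nat.le_div_iff_mul_le (by omega)).2 ?_)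
      have hK' : 4 * n1 ^ 3 ≤ (n1 - 1) ^ 2 * M := hK.le
      zify [hK', show 1 ≤ n1 by omega]
      refine le_of_mul_le_mul_left ?_ (show (0 : ℤ) < D by omega)
      nlinarith [mul_nonneg (sq_nonneg ((n1 : ℤ) - 1)) (Int.natCast_nonneg M)]
    · exact hD2N
  -- evaluate the check
  obtain ⟨a, ha, rfl⟩ : ∃ a, a < 13 ∧ n2 = 9 + 4 * a := ⟨(n2 - 9) / 4, by omega, by omega⟩
  obtain ⟨b, hb, rfl⟩ : ∃ b, b < 13 ∧ n3 = 9 + 4 * b := ⟨(n3 - 9) / 4, by omega, by omega⟩
  have hT : noTriple n1 = true := by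
    rcases hn with rfl | rfl
    · exact noTriple_five
    · exact noTriple_seven
  simp only [noTriple, List.all_eq_true, List.mem_range, Bool.or_eq_true, decide_eq_true_eq] at hT
  have hND : noDegree n1 N M = true := by
    rcases hT a ha b hb with (((h | h) | h) | h) | h
    · omega
    · exact absurd c12 h
    · exact absurd c13 h
    · exact absurd c23 h
    · rw [hN, hM]; exact h
  simp only [noDegree, List.all_eq_true, List.mem_range, Bool.or_eq_true, Bool.and_eq_true,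
    decide_eq_true_eq] at hND
  have hNO : noOrder n1 N M D f δ = true := by
    rcases hND D (by omega) with h | ⟨h1, h2⟩
    · omega
    obtain ⟨q, hq⟩ := hcong
    rcases hδ with rfl | rfl
    · rw [show f = D + 1 by omega]
      refine h1.resolve_left fun hne => hne ?_
      have : ((D + n1 - 1 : ℕ) : ℤ) = (n1 : ℤ) * (q + 1) := by
        rw [Nat.cast_sub (by omega)]; push_cast; linarith
      exact Nat.mod_eq_zero_of_dvd (Int.natCast_dvd_natCast.1 ⟨_, this⟩)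
    · rw [show f = D - 1 by omega]
      refine h2.resolve_left fun hne => hne ?_
      exact Nat.mod_eq_zero_of_dvd (Int.natCast_dvd_natCast.1 ⟨q, by push_cast; linarith⟩)
  obtain ⟨L, hL⟩ : ∃ L, L = Nat.lcm (D / Nat.gcd D N) (f / Nat.gcd f N) := ⟨_, rfl⟩
  have hdiv : ∀ x, 0 < x → x ∣ N * m → x / Nat.gcd x N ∣ m := by
    intro x hx hxd
    obtain ⟨g, hg⟩ : ∃ g, g = Nat.gcd x N := ⟨_, rfl⟩
    have hg0 : 0 < g := hg ▸ Nat.gcd_pos_of_pos_left N hx
    refine ((Nat.coprime_div_gcd_div_gcd (m := x) (n := N) (Nat.gcd_pos_of_pos_left N hx))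
      ).dvd_of_dvd_mul_left ?_
    rw [← hg]
    refine Nat.dvd_of_mul_dvd_mul_left hg0 ?_
    rw [Nat.mul_div_cancel' (hg ▸ Nat.gcd_dvd_left x N), ← mul_assoc,
      Nat.mul_div_cancel' (hg ▸ Nat.gcd_dvd_right x N)]
    exact hxd
  have hLm : L ∣ m := hL ▸ Nat.lcm_dvd (hdiv D (by omega) hDG) (hdiv f (by omega) hfG)
  obtain ⟨i, hi⟩ := hLm
  obtain ⟨i, rfl⟩ : ∃ i', i = i' + 1 := ⟨i - 1, by rcases i with _ | i <;> [simp at hi; rfl] <;> omega⟩
  have hL0 : 0 < L := Nat.pos_of_ne_zero fun h => by rw [h, zero_mul] at hi; omega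
  have hil : i < 3 * N / L := by
    rw [Nat.lt_iff_add_one_le, Nat.le_div_iff_mul_le hL0, mul_comm, ← hi]
    exact hm
  simp only [noOrder, List.all_eq_true, List.mem_range, Bool.or_eq_true, decide_eq_true_eq,
    ← hL] at hNO
  obtain ⟨S, hS⟩ : ∃ S, S = ((D : ℤ) + ((n1 : ℤ) - 1) * δ).toNat / n1 := ⟨_, rfl⟩
  have hsS : |s| ≤ S := by
    rw [hS, Int.natCast_div, Int.toNat_of_nonneg (le_trans (by positivity) hsb)]
    refine Int.le_ediv_of_mul_le (by omega) ?_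
    rw [mul_comm]; exact hsb
  have hsS' := abs_le.1 hsS
  rcases hNO i hil with ((h | h) | h) | h
  · rw [← hi] at h; omega
  · rw [← hi] at h; exact h hcop
  · rw [← hi] at h; omega
  rw [← hi, ← hS] at h
  have h' := h ((s + S).toNat) (by omega)
  rw [show (((s + S).toNat : ℕ) : ℤ) - S = s by omega] at h'
  simp only [noCent, Bool.or_eq_true, decide_eq_true_eq] at h'
  have hnum : N * m * ((D : ℤ) - s).natAbs ^ 2 = c ^ 2 * (n1 * f * D) := by
    have : ((N * m * ((D : ℤ) - s).natAbs ^ 2 : ℕ) : ℤ) = ((c ^ 2 * (n1 * f * D) : ℕ) : ℤ) := by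
      push_cast
      rw [sq_abs]
      push_cast at hform
      linear_combination -hform
    exact_mod_cast this
  have hden : 0 < n1 * f * D := Nat.mul_pos (Nat.mul_pos (by omega) (by omega)) (by omega)
  rw [hnum, Nat.mul_mod_left, Nat.mul_div_cancel _ hden, Nat.sqrt_eq' c, ← sq] at h'
  rcases h' with ((((h1 | h1) | h1) | h1) | h1) | h1
  · exact h1 rfl
  · omega
  · have h2 : (1 + s ^ 2 + (((n1 - 1) / 2 : ℕ) : ℤ) * (δ + s) ^ 2).natAbs ≤ c := by
      have : (0 : ℤ) ≤ 1 + s ^ 2 + (((n1 - 1) / 2 : ℕ) : ℤ) * (δ + s) ^ 2 := by positivity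
      omega
    have := Nat.pow_le_pow_left h2 2
    omega
  · exact h1 rfl
  · exact h1 (Nat.mod_eq_zero_of_dvd hcm)
  · exact hodd (Nat.dvd_of_mod_eq_zero h1)

end Cfsg.Agent.Lib.SuzukiSystem68
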