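import Cfsg.Agent.Lib.SuzukiSystem68.Involution
import Cfsg.Agent.Lib.SuzukiSystem68.Small
import Cfsg.Agent.Lib.DegreeBounds.Basic

/-!
# A self-centralisation system of type (2, 4, 4)

Owner: helper68.
-/

set_option autoImplicit false
set_option linter.unusedSectionVars false

namespace Cfsg.Agent.Lib.SuzukiSystem68

open scoped Classical
open Cfsg.Agent.Lib.Characters.Basic Cfsg.Agent.Lib.SzDegrees
open Cfsg.Agent.Lib.SzTori (conjSet ti_of_centralizer card_conjSet)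

universe u

/-- The hypotheses. -/
structure Sys244 (G : Type u) [Group G] where
  A₁ : Subgroup G
  A₂ : Subgroup G
  A₃ : Subgroup G
  hC₁ : IsCC A₁
  hC₂ : IsCC A₂
  hC₃ : IsCC A₃
  nc₁₂ : ∀ g : G, A₁.map (MulAut.conj g).toMonoidHom ≠ A₂
  nc₁₃ : ∀ g : G, A₁.map (MulAut.conj g).toMonoidHom ≠ A₃
  nc₂₃ : ∀ g : G, A₂.map (MulAut.conj g).toMonoidHom ≠ A₃
  h₁ : A₁.relIndex (Subgroup.normalizer (A₁ : Set G)) = 2
  h₂ : A₂.relIndex (Subgroup.normalizer (A₂ : Set G)) = 4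
  h₃ : A₃.relIndex (Subgroup.normalizer (A₃ : Set G)) = 4
  five_le : 5 ≤ Nat.card A₁
  six_le₂ : 5 < Nat.card A₂
  six_le₃ : 5 < Nat.card A₃
  ord : Nat.card G ≤ 3 * Nat.card A₁ ^ 2 * Nat.card A₂ ^ 2 * Nat.card A₃ ^ 2

variable {G : Type u} [Group G] [Fintype G]

theorem disjoint_conjSet {C C' : Subgroup G} (hC : IsCC C) (hC' : IsCC C')
    (hnc : ∀ g : G, C.map (MulAut.conj g).toMonoidHom ≠ C') {y : G} (hy : y ∈ conjSet C)
    (hy' : y ∈ conjSet C') : False := by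
  obtain ⟨g, c, hc, -, rfl⟩ := hy
  obtain ⟨g', c', hc', hc1', he⟩ := hy'
  refine cc_disjoint hC hC' hnc ⟨c', hc'⟩ (fun e => hc1' (congrArg Subtype.val e))
    ⟨g'⁻¹ * g, c, hc, fun e => hc1' (by
      rw [e, mul_one, mul_inv_cancel] at he; exact conj_eq_one_iff.1 he), ?_⟩
  show g'⁻¹ * g * c * (g'⁻¹ * g)⁻¹ = c'
  calc g'⁻¹ * g * c * (g'⁻¹ * g)⁻¹ = g'⁻¹ * (g * c * g⁻¹) * g' := by group
    _ = g'⁻¹ * (g' * c' * g'⁻¹) * g' := by rw [he]
    _ = c' := by group

/-- Every element of the conjugates of `C` is a product of two involutions in `|C|` ways. -/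
theorem pairs_lower {C : Subgroup G} (hC : IsCC C) (hodd : Odd (Nat.card C)) {w : G}
    (hw : w ∈ Subgroup.normalizer (C : Set G)) (hw2 : orderOf w = 2) :
    Nat.card C * Nat.card (conjSet C) ≤
      (((Finset.univ.filter fun u : G => orderOf u = 2) ×ˢ (Finset.univ.filter fun u : G => orderOf u = 2)).filter
        fun p : G × G => p.1 * p.2 ∈ conjSet C).card := by
  set T := ((Finset.univ.filter fun u : G => orderOf u = 2) ×ˢ
    (Finset.univ.filter fun u : G => orderOf u = 2)).filter fun p : G × G => p.1 * p.2 ∈ conjSet C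
  have hww : w * w = 1 := by rw [← sq, ← hw2, pow_orderOf_eq_one]
  have hwC : w ∉ C := fun hm => by
    have h1 := Subgroup.orderOf_dvd_natCard C hm
    rw [hw2] at h1
    exact Nat.not_even_iff_odd.2 hodd (even_iff_two_dvd.2 h1)
  have hinv := cc_inverts hC hodd hw hwC hww
  have hinvol : ∀ b ∈ C, orderOf (w * b) = 2 := fun b hb => by
    refine orderOf_eq_prime ?_ fun e => hwC ?_
    · rw [sq, ← mul_assoc, hinv b hb, inv_mul_cancel]
    · rw [eq_inv_of_mul_eq_one_left e]; exact C.inv_mem hb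
  rw [Nat.card_eq_card_toFinset (conjSet C)] at *
  rw [Finset.card_eq_sum_card_fiberwise (f := fun p : G × G => p.1 * p.2)
    (t := (conjSet C).toFinset) fun p hp => Set.mem_toFinset.2 (Finset.mem_filter.1 hp).2]
  rw [mul_comm, ← smul_eq_mul, ← Finset.sum_const]
  refine Finset.sum_le_sum fun y hy => ?_
  obtain ⟨g, a, ha, ha1, rfl⟩ := Set.mem_toFinset.1 hy
  rw [Nat.card_eq_fintype_card, ← Finset.card_univ]
  refine Finset.card_le_card_of_injOn
    (fun b : C => (g * (w * b) * g⁻¹, g * (w * (b * a)) * g⁻¹)) (fun b _ => ?_) ?_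
  · have h1 : ∀ x ∈ C, orderOf (g * (w * x) * g⁻¹) = 2 := fun x hx => by
      rw [show g * (w * x) * g⁻¹ = MulAut.conj g (w * x) from rfl, MulEquiv.orderOf_eq]
      exact hinvol x hx
    have h2 : g * (w * b) * g⁻¹ * (g * (w * (b * a)) * g⁻¹) = g * a * g⁻¹ := by
      calc g * (w * b) * g⁻¹ * (g * (w * (b * a)) * g⁻¹) = g * ((w * b * w) * b * a) * g⁻¹ := by group
        _ = g * a * g⁻¹ := by rw [hinv b b.2, inv_mul_cancel, one_mul]
    simp only [Finset.mem_coe, Finset.mem_filter, T, Finset.mem_product, Finset.mem_univ, true_and]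
    exact ⟨⟨⟨h1 b b.2, h1 _ (C.mul_mem b.2 ha)⟩, h2 ▸ ⟨g, a, ha, ha1, rfl⟩⟩, h2⟩
  · intro b _ b' _ e
    have e1 := congrArg Prod.fst e
    exact Subtype.ext (mul_left_cancel (mul_left_cancel (mul_right_cancel e1)))

namespace Sys244

variable (S : Sys244 G)

/-- The order of the first subgroup. -/
noncomputable def n₁ : ℕ := Nat.card S.A₁
/-- The order of the second subgroup. -/
noncomputable def n₂ : ℕ := Nat.card S.A₂
/-- The order of the third subgroup. -/
noncomputable def n₃ : ℕ := Nat.card S.A₃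
/-- The product of the orders. -/
noncomputable def N : ℕ := S.n₁ * S.n₂ * S.n₃
/-- The part of the group order prime to `N`. -/
noncomputable def m : ℕ := Nat.card G / S.N

theorem odd₁ : Odd S.n₁ := cc_odd S.hC₁ dvd_rfl S.h₁
theorem odd₂ : Odd S.n₂ := cc_odd S.hC₂ (by norm_num) S.h₂
theorem odd₃ : Odd S.n₃ := cc_odd S.hC₃ (by norm_num) S.h₃

theorem cop₁₂ : S.n₁.Coprime S.n₂ := cc_coprime S.hC₁ S.hC₂ S.nc₁₂
theorem cop₁₃ : S.n₁.Coprime S.n₃ := cc_coprime S.hC₁ S.hC₃ S.nc₁₃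
theorem cop₂₃ : S.n₂.Coprime S.n₃ := cc_coprime S.hC₂ S.hC₃ S.nc₂₃

theorem four_mod {C : Subgroup G} (hC : IsCC C)
    (h : C.relIndex (Subgroup.normalizer (C : Set G)) = 4) : Nat.card C % 4 = 1 := by
  have := card_orbits_mul hC (cc_orb_card hC h)
  omega

theorem mod₂ : S.n₂ % 4 = 1 := four_mod S.hC₂ S.h₂
theorem mod₃ : S.n₃ % 4 = 1 := four_mod S.hC₃ S.h₃

theorem nine_le₂ : 9 ≤ S.n₂ := by
  have := S.mod₂; have : 5 < S.n₂ := S.six_le₂; omega
theorem nine_le₃ : 9 ≤ S.n₃ := by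
  have := S.mod₃; have : 5 < S.n₃ := S.six_le₃; omega

theorem N_pos : 0 < S.N :=
  Nat.mul_pos (Nat.mul_pos Nat.card_pos Nat.card_pos) Nat.card_pos

theorem N_dvd : S.N ∣ Nat.card G :=
  Nat.Coprime.mul_dvd_of_dvd_of_dvd (Nat.Coprime.mul_left S.cop₁₃ S.cop₂₃)
    (Nat.Coprime.mul_dvd_of_dvd_of_dvd S.cop₁₂ (Subgroup.card_subgroup_dvd_card _)
      (Subgroup.card_subgroup_dvd_card _)) (Subgroup.card_subgroup_dvd_card _)

theorem card_eq : Nat.card G = S.N * S.m := (Nat.mul_div_cancel' S.N_dvd).symm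

theorem m_pos : 0 < S.m := by
  rcases Nat.eq_zero_or_pos S.m with h | h
  · exact absurd S.card_eq (by rw [h, mul_zero]; exact Nat.card_pos.ne')
  · exact h

theorem m_le : S.m ≤ 3 * S.N := by
  refine Nat.le_of_mul_le_mul_left ?_ S.N_pos
  rw [← S.card_eq]
  refine S.ord.trans_eq ?_
  simp only [N, n₁, n₂, n₃]; ring

theorem m_cop : S.m.Coprime S.N := by
  have h : ∀ {C : Subgroup G}, IsCC C → ∀ r, Nat.card C * r = S.N → S.m.Coprime (Nat.card C) := by
    intro C hC r hr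
    have h1 := C.card_mul_index
    rw [S.card_eq, ← hr, mul_assoc] at h1
    exact Nat.Coprime.coprime_dvd_left
      ⟨r, (Nat.eq_of_mul_eq_mul_left Nat.card_pos h1).trans (mul_comm _ _)⟩ (cc_hall hC).symm
  exact (Nat.Coprime.mul_right (Nat.Coprime.mul_right (h S.hC₁ (S.n₂ * S.n₃) (by
    simp only [N, n₁]; ring)) (h S.hC₂ (S.n₁ * S.n₃) (by simp only [N, n₂]; ring)))
      (h S.hC₃ (S.n₁ * S.n₂) (by simp only [N, n₃]; ring)))

theorem odd_N : Odd S.N := (S.odd₁.mul S.odd₂).mul S.odd₃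

theorem four_dvd : 4 ∣ S.m := by
  have h1 : 4 ∣ Nat.card G := by
    have h2 := cc_card_normalizer S.h₂
    exact (Dvd.intro _ h2.symm).trans (Subgroup.card_subgroup_dvd_card _)
  rw [S.card_eq] at h1
  refine Nat.Coprime.dvd_of_dvd_mul_left ?_ h1
  have h3 : Nat.Coprime 2 S.N := (Nat.coprime_two_left).2 S.odd_N
  exact (Nat.Coprime.mul_left h3 h3 : Nat.Coprime (2 * 2) S.N)

theorem P_ge : 117 ≤ S.n₂ * S.n₃ := by
  have h2 := S.nine_le₂; have h3 := S.nine_le₃; have m2 := S.mod₂; have m3 := S.mod₃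
  have hne : S.n₂ ≠ S.n₃ := fun e => by
    have := S.cop₂₃
    rw [e, Nat.coprime_self] at this
    omega
  rcases Nat.lt_or_ge S.n₂ 13 with h | h
  · have := Nat.mul_le_mul (show 9 ≤ S.n₂ from h2) (show 13 ≤ S.n₃ by omega)
    omega
  · have := Nat.mul_le_mul h h3
    omega

/-- An element of order four. -/
theorem exists_four : ∃ y : G, y ∈ Subgroup.normalizer (S.A₂ : Set G) ∧ orderOf y = 4 :=
  let ⟨y, hy, h⟩ := cc_exists_order_four S.hC₂ (by have := S.nine_le₂; simp only [n₂] at this; omega)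
    S.odd₂ S.h₂
  ⟨y, hy, h⟩

variable [IsSimpleGroup G] [Fintype (Cfsg.IrrCharacter G)] (I : InvData S.A₁)

theorem c_dvd : I.c ∣ S.m := by
  have h1 : I.c ∣ S.N * S.m := S.card_eq ▸ Subgroup.card_subgroup_dvd_card _
  refine Nat.Coprime.dvd_of_dvd_mul_left ?_ h1
  have key : ∀ {C : Subgroup G}, IsCC C → Odd (Nat.card C) →
      I.c.Coprime (Nat.card C) := by
    intro C hC hodd
    refine Nat.coprime_of_dvd fun p hp hpc hpC => ?_
    haveI := Fact.mk hp
    obtain ⟨T, hT⟩ := cc_sylow_le hC hpC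
    obtain ⟨⟨x, hx⟩, hxo⟩ := exists_prime_orderOf_dvd_card'
      (G := Subgroup.centralizer ({I.z} : Set G)) p hpc
    rw [Subgroup.orderOf_mk] at hxo
    obtain ⟨U, hU⟩ := (IsPGroup.of_card (G := Subgroup.zpowers x) (p := p) (n := 1)
      (by rw [Nat.card_zpowers, hxo, pow_one])).exists_le_sylow
    obtain ⟨g, rfl⟩ := MulAction.exists_smul_eq G T U
    have hxT := hU (Subgroup.mem_zpowers x)
    rw [Sylow.coe_subgroup_smul, Subgroup.mem_pointwise_smul_iff_inv_smul_mem, MulAut.smul_def,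
      ← map_inv, MulAut.conj_apply, inv_inv] at hxT
    have hne : g⁻¹ * x * g ≠ 1 := fun e => by
      have : x = 1 := by
        calc x = g * (g⁻¹ * x * g) * g⁻¹ := by group
          _ = 1 := by rw [e]; group
      rw [this, orderOf_one] at hxo
      exact hp.one_lt.ne hxo
    have hzC : g⁻¹ * I.z * g ∈ C := by
      rw [← hC _ (hT hxT) hne, Subgroup.mem_centralizer_singleton_iff]
      have hc := Subgroup.mem_centralizer_singleton_iff.1 hx
      calc g⁻¹ * I.z * g * (g⁻¹ * x * g) = g⁻¹ * (I.z * x) * g := by group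
        _ = g⁻¹ * (x * I.z) * g := by rw [hc]
        _ = g⁻¹ * x * g * (g⁻¹ * I.z * g) := by group
    have h2 := Subgroup.orderOf_dvd_natCard C hzC
    rw [show g⁻¹ * I.z * g = MulAut.conj g⁻¹ I.z by simp, MulEquiv.orderOf_eq, I.z_order] at h2
    exact Nat.not_even_iff_odd.2 hodd (even_iff_two_dvd.2 h2)
  exact Nat.Coprime.mul_right (Nat.Coprime.mul_right (key S.hC₁ S.odd₁) (key S.hC₂ S.odd₂))
    (key S.hC₃ S.odd₃)

theorem c_odd_part : ¬ 2 ∣ S.m / I.c := by
  obtain ⟨-, -, h⟩ := I.exists_sylow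
  obtain ⟨r, hr⟩ := S.c_dvd I
  have hc : 0 < I.c := Nat.card_pos
  rw [hr, Nat.mul_div_cancel_left r hc]
  intro h2
  have h1 := (Subgroup.centralizer ({I.z} : Set G)).card_mul_index
  rw [S.card_eq, hr, show S.N * (I.c * r) = I.c * (S.N * r) by ring] at h1
  exact h (Nat.eq_of_mul_eq_mul_left hc h1 ▸ h2.mul_left S.N)

theorem D_dvd : I.D ∣ Nat.card G := dg_dvd _

theorem f_dvd : I.F.col.f ∣ Nat.card G := by
  obtain ⟨χ, hχ⟩ := Finset.card_pos.1 (show 0 < I.F.col.A.card by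
    rw [I.F.col.card]; have := I.two_le; omega)
  have h := I.F.col.deg χ hχ
  rw [dg_spec, Nat.cast_inj] at h
  exact h ▸ dg_dvd χ

/-- The degrees already known. -/
theorem degree_bound (R : Finset (Cfsg.IrrCharacter G)) (h1 : oneChar G ∉ R) (h2 : I.F.st ∉ R)
    (h3 : Disjoint R I.F.col.A) :
    1 + I.D * I.D + I.F.col.k * (I.F.col.f * I.F.col.f) + ∑ χ ∈ R, dg χ ^ 2 ≤ Nat.card G := by
  rw [← DegreeBounds.Basic.sum_charDegree_sq (G := G)]
  refine le_of_eq_of_le ?_ (Finset.sum_le_sum_of_subset_of_nonneg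
    (Finset.subset_univ (insert (oneChar G) (insert I.F.st (I.F.col.A ∪ R)))) fun _ _ _ => Nat.zero_le _)
  rw [Finset.sum_insert (by simp [Finset.mem_insert, I.F.st_ne.symm, I.F.col.one_not_mem, h1]),
    Finset.sum_insert (by simp [I.F.st_not, h2]), Finset.sum_union h3.symm,
    show Cfsg.charDegree ((oneChar G : Cfsg.IrrCharacter G) : G → ℂ) = 1 by
      have := dg_spec (oneChar G); rw [oneChar_apply] at this; exact_mod_cast this.symm,
    Finset.sum_congr (s₁ := I.F.col.A) rfl (g := fun _ => I.F.col.f * I.F.col.f) fun χ hχ => by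
      have h := I.F.col.deg χ hχ
      rw [dg_spec, Nat.cast_inj] at h
      rw [← sq, ← h]; rfl,
    Finset.sum_const, I.F.col.card, smul_eq_mul, sq (Cfsg.charDegree (I.F.st : G → ℂ))]
  show _ = 1 + (dg I.F.st * dg I.F.st + (_ + ∑ χ ∈ R, dg χ ^ 2))
  unfold InvData.D
  ring

/-- Products of two involutions in the conjugates of the three subgroups. -/
theorem pair_bound : I.c ^ 2 * (2 * S.n₁ + S.n₂ + S.n₃ - 4) ≤ 4 * Nat.card G := by
  set U := Finset.univ.filter fun u : G => orderOf u = 2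
  have hU : U.card * I.c = Nat.card G := by
    rw [← Characters.Complete.card_conjugates_mul_centralizer I.z, ← Fintype.card_subtype,
      ← Nat.card_eq_fintype_card]
    congr 1
    refine Nat.card_congr (Equiv.subtypeEquivRight fun u => ⟨fun h => I.one_class h, fun h => ?_⟩)
    obtain ⟨g, rfl⟩ := isConj_iff.1 h
    rw [show g * I.z * g⁻¹ = MulAut.conj g I.z from rfl, MulEquiv.orderOf_eq, I.z_order]
  have four : ∀ {C : Subgroup G}, IsCC C → Odd (Nat.card C) → 9 ≤ Nat.card C →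
      C.relIndex (Subgroup.normalizer (C : Set G)) = 4 →
      ∃ w ∈ Subgroup.normalizer (C : Set G), orderOf w = 2 := by
    intro C hC ho h9 h
    obtain ⟨y, hy, hyo⟩ := cc_exists_order_four hC (by omega) ho h
    refine ⟨y ^ 2, pow_mem hy 2, ?_⟩
    rw [orderOf_pow, hyo]
    norm_num
  obtain ⟨w₂, hw₂, hw₂o⟩ := four S.hC₂ S.odd₂ S.nine_le₂ S.h₂
  obtain ⟨w₃, hw₃, hw₃o⟩ := four S.hC₃ S.odd₃ S.nine_le₃ S.h₃
  have p1 := pairs_lower S.hC₁ S.odd₁ I.z_mem I.z_order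
  have p2 := pairs_lower S.hC₂ S.odd₂ hw₂ hw₂o
  have p3 := pairs_lower S.hC₃ S.odd₃ hw₃ hw₃o
  have c1 := card_conjSet S.A₁ (ti_of_centralizer _ S.hC₁)
  have c2 := card_conjSet S.A₂ (ti_of_centralizer _ S.hC₂)
  have c3 := card_conjSet S.A₃ (ti_of_centralizer _ S.hC₃)
  rw [cc_card_normalizer S.h₁] at c1
  rw [cc_card_normalizer S.h₂] at c2
  rw [cc_card_normalizer S.h₃] at c3
  obtain ⟨T, hT⟩ : ∃ T : Subgroup G → Finset (G × G),
      T = fun C => (U ×ˢ U).filter fun p : G × G => p.1 * p.2 ∈ conjSet C := ⟨_, rfl⟩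
  have hle : (T S.A₁).card + (T S.A₂).card + (T S.A₃).card ≤ U.card * U.card := by
    rw [← Finset.card_product, ← Finset.card_union_of_disjoint, ← Finset.card_union_of_disjoint]
    · refine Finset.card_le_card ?_
      subst hT
      simp only [Finset.union_subset_iff]
      exact ⟨⟨Finset.filter_subset _ _, Finset.filter_subset _ _⟩, Finset.filter_subset _ _⟩
    · subst hT
      rw [Finset.disjoint_union_left, Finset.disjoint_filter, Finset.disjoint_filter]
      exact ⟨fun p _ h h' => disjoint_conjSet S.hC₁ S.hC₃ S.nc₁₃ h h',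
        fun p _ h h' => disjoint_conjSet S.hC₂ S.hC₃ S.nc₂₃ h h'⟩
    · subst hT
      rw [Finset.disjoint_filter]
      exact fun p _ h h' => disjoint_conjSet S.hC₁ S.hC₂ S.nc₁₂ h h'
  have p1' : Nat.card S.A₁ * Nat.card (conjSet S.A₁) ≤ (T S.A₁).card := by subst hT; exact p1
  have p2' : Nat.card S.A₂ * Nat.card (conjSet S.A₂) ≤ (T S.A₂).card := by subst hT; exact p2
  have p3' : Nat.card S.A₃ * Nat.card (conjSet S.A₃) ≤ (T S.A₃).card := by subst hT; exact p3
  have e : Nat.card G * (2 * S.n₁ + S.n₂ + S.n₃ - 4) ≤ 4 * (U.card * U.card) := by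
    refine le_trans (le_of_eq ?_) (Nat.mul_le_mul_left 4 (le_trans (by omega) hle :
      Nat.card S.A₁ * Nat.card (conjSet S.A₁) + Nat.card S.A₂ * Nat.card (conjSet S.A₂) +
        Nat.card S.A₃ * Nat.card (conjSet S.A₃) ≤ U.card * U.card))
    have h5 := S.five_le; have h6 := S.six_le₂; have h7 := S.six_le₃
    rw [show 2 * S.n₁ + S.n₂ + S.n₃ - 4 = 2 * (S.n₁ - 1) + (S.n₂ - 1) + (S.n₃ - 1) by
      simp only [n₁, n₂, n₃]; omega]
    simp only [n₁, n₂, n₃]
    linarith [c1, c2, c3]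
  rw [← hU] at e ⊢
  have hU0 : 0 < U.card := Finset.card_pos.2 ⟨I.z, Finset.mem_filter.2 ⟨Finset.mem_univ _, I.z_order⟩⟩
  refine Nat.le_of_mul_le_mul_left ?_ hU0
  calc U.card * (I.c ^ 2 * (2 * S.n₁ + S.n₂ + S.n₃ - 4))
      = I.c * (U.card * I.c * (2 * S.n₁ + S.n₂ + S.n₃ - 4)) := by ring
    _ ≤ I.c * (4 * (U.card * U.card)) := Nat.mul_le_mul_left _ e
    _ = _ := by ring

/-- The first order is at least nine. -/
theorem nine_le₁ : 9 ≤ S.n₁ := by
  obtain ⟨I⟩ := exists_invData S.hC₁ S.h₁ S.five_le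
  by_contra hc
  have h5 : 5 ≤ S.n₁ := S.five_le
  obtain ⟨j, hj⟩ := S.odd₁
  have hn : S.n₁ = 5 ∨ S.n₁ = 7 := by omega
  have hk : I.F.col.k = (S.n₁ - 1) / 2 := by have := I.order; simp only [n₁]; omega
  have hdeg := degree_bound S I ∅ (by simp) (by simp) (by simp)
  rw [Finset.sum_empty, add_zero, hk, S.card_eq] at hdeg
  have hne : S.n₂ ≠ S.n₃ := fun e => by
    have := S.cop₂₃
    rw [e, Nat.coprime_self] at this
    have := S.nine_le₃; omega
  have hform := I.formula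
  rw [S.card_eq] at hform
  have hnorm := I.norm_bound
  rw [hk] at hnorm
  have hD := S.D_dvd I
  have hf := S.f_dvd I
  have hpair := S.pair_bound I
  rw [S.card_eq] at hD hf hpair
  rcases Nat.lt_or_gt_of_ne hne with h | h
  · exact small_false hn S.nine_le₂ h S.mod₂ S.mod₃ S.cop₁₂ S.cop₁₃ S.cop₂₃ I.F.hδ I.D_pos I.D_cong
      I.f_eq I.f_pos hD hf S.m_pos S.m_le S.four_dvd S.m_cop I.normalizer_bound hform hnorm
      (S.c_dvd I) (S.c_odd_part I) hpair hdeg
  · have e : S.N = S.n₁ * S.n₃ * S.n₂ := by simp only [N]; ring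
    have e' : 2 * S.n₁ + S.n₂ + S.n₃ - 4 = 2 * S.n₁ + S.n₃ + S.n₂ - 4 := by omega
    rw [e'] at hpair
    exact small_false hn S.nine_le₃ h S.mod₃ S.mod₂ S.cop₁₃ S.cop₁₂ S.cop₂₃.symm I.F.hδ I.D_pos
      I.D_cong I.f_eq I.f_pos (e ▸ hD) (e ▸ hf) S.m_pos (e ▸ S.m_le) S.four_dvd (e ▸ S.m_cop)
      I.normalizer_bound (e ▸ hform) hnorm (S.c_dvd I) (S.c_odd_part I) (e ▸ hpair) (e ▸ hdeg)

end Sys244

end Cfsg.Agent.Lib.SuzukiSystem68
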