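import Cfsg.Agent.Lib.SzDegrees.Exceptional

/-!
# Exceptional characters of a CC-subgroup, two or more orbits

The version of `SzDegrees.exists_structure` allowing two orbits, with the column sum over the
exceptional characters.

Owner: helper68.
-/

set_option autoImplicit false
set_option linter.unusedSectionVars false

namespace Cfsg.Agent.Lib.SuzukiSystem68

open scoped ComplexConjugate Classical
open Cfsg.Agent.Lib.Induced.Basic Cfsg.Agent.Lib.Characters.Basic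
open Cfsg.Agent.Lib.SzDegrees

universe u

variable {G : Type u} [Group G] [Fintype G] {C : Subgroup G} (hC : IsCC C) {e : ℕ}
  (he : ∀ ν : C →* ℂˣ, ν ≠ 1 → (orb ν).card = e)

include hC he

/-- The exceptional characters, two or more orbits. -/
theorem exists_exceptional' (hk : 2 ≤ ((Finset.univ.erase (1 : C →* ℂˣ)).image orb).card) :
    ∃ (ε : ℤ) (X : Finset (C →* ℂˣ) → Cfsg.IrrCharacter G), (ε = 1 ∨ ε = -1) ∧
      Set.InjOn X ((Finset.univ.erase (1 : C →* ℂˣ)).image orb : Finset _) ∧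
      ∀ ν μ : C →* ℂˣ, ν ≠ 1 → μ ≠ 1 →
        dfun ν μ = (ε : ℂ) • ((X (orb ν) : G → ℂ) - (X (orb μ) : G → ℂ)) := by
  set K := (Finset.univ.erase (1 : C →* ℂˣ)).image orb with hK
  by_cases h3 : 3 ≤ K.card
  · exact exists_exceptional hC he h3
  obtain ⟨O₁, O₀, hne, hKeq⟩ := Finset.card_eq_two.1 (show K.card = 2 by omega)
  obtain ⟨r₁, hr₁, hr₁o⟩ := exists_rep (show O₁ ∈ K by simp [hKeq])
  obtain ⟨r₀, hr₀, hr₀o⟩ := exists_rep (show O₀ ∈ K by simp [hKeq])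
  obtain ⟨a, b, hab, hd⟩ := dfun_pair hC he hr₁ hr₀ (by rw [hr₁o, hr₀o]; exact hne)
  let X : Finset (C →* ℂˣ) → Cfsg.IrrCharacter G := fun O => if O = O₁ then a else b
  have hX1 : X O₁ = a := if_pos rfl
  have hX0 : X O₀ = b := if_neg hne.symm
  refine ⟨1, X, Or.inl rfl, ?_, fun ν μ hν hμ => ?_⟩
  · intro O hO O' hO' h
    rw [Finset.mem_coe, hKeq, Finset.mem_insert, Finset.mem_singleton] at hO hO'
    rcases hO with rfl | rfl <;> rcases hO' with rfl | rfl <;> simp_all [eq_comm]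
  have one : ∀ κ : C →* ℂˣ, κ ≠ 1 → dfun κ r₀ = (X (orb κ) : G → ℂ) - (b : G → ℂ) := by
    intro κ hκ
    have hmem : orb κ ∈ K := Finset.mem_image_of_mem _ (Finset.mem_erase.2 ⟨hκ, Finset.mem_univ _⟩)
    rw [hKeq, Finset.mem_insert, Finset.mem_singleton] at hmem
    rcases hmem with h | h
    · have := dfun_congr hC he hκ hr₁ (h.trans hr₁o.symm)
      simp only [dfun, sub_eq_zero] at this hd ⊢
      rw [h, hX1, this, hd]
    · rw [dfun_congr hC he hκ hr₀ (h.trans hr₀o.symm), h, hX0, sub_self]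
  calc dfun ν μ = dfun ν r₀ - dfun μ r₀ := by simp only [dfun]; abel
    _ = _ := by rw [one ν hν, one μ hμ, Int.cast_one, one_smul]; abel

/-- Values of the irreducible characters on `C`. -/
theorem exists_structure (hk : 2 ≤ ((Finset.univ.erase (1 : C →* ℂˣ)).image orb).card)
    [Fintype (Cfsg.IrrCharacter G)] :
    ∃ (ε d : ℤ) (f : ℕ) (A : Finset (Cfsg.IrrCharacter G)) (dd : Cfsg.IrrCharacter G → ℤ),
      (ε = 1 ∨ ε = -1) ∧ A.card = ((Finset.univ.erase (1 : C →* ℂˣ)).image orb).card ∧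
      (∀ χ ∈ A, (χ : G → ℂ) 1 = f) ∧ ((Nat.card C : ℤ) ∣ (f : ℤ) - (d + ε * e)) ∧
      (∀ χ, χ ∉ A → (∀ c : C, c ≠ 1 → (χ : G → ℂ) (c : G) = dd χ) ∧
        ∀ n : ℕ, (χ : G → ℂ) 1 = n → (Nat.card C : ℤ) ∣ (n : ℤ) - dd χ) ∧
      (∀ χ ∈ A, ∀ z : ℂ, ¬ ∀ c : C, c ≠ 1 → (χ : G → ℂ) (c : G) = z) ∧
      (∀ χ ∈ A, ∀ χ' ∈ A, (∀ c : C, c ≠ 1 → (χ : G → ℂ) (c : G) = (χ' : G → ℂ) (c : G)) → χ = χ') ∧
      (∀ χ ∈ A, ∀ χ' ∈ A, ∀ g : G, g ≠ 1 → g ∉ SzTori.conjSet C →
        (χ : G → ℂ) g = (χ' : G → ℂ) g) ∧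
      (∀ c : C, c ≠ 1 → ∑ χ ∈ A, (χ : G → ℂ) (c : G) = (A.card : ℂ) * d - ε) ∧
      ∑ χ ∈ Finset.univ \ A, dd χ ^ 2 = e + 2 * ε * d - (A.card : ℤ) * d ^ 2 := by
  set K := (Finset.univ.erase (1 : C →* ℂˣ)).image orb with hK
  obtain ⟨ε, X, hε, hinj, hX⟩ := exists_exceptional' hC he hk
  have hε2 : (ε : ℂ) * ε = 1 := by rcases hε with rfl | rfl <;> simp
  have horb : ∀ {μ : C →* ℂˣ}, μ ≠ 1 → orb μ ∈ K := fun hμ =>
    Finset.mem_image_of_mem _ (Finset.mem_erase.2 ⟨hμ, Finset.mem_univ _⟩)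
  -- multiplicities
  have hnat : ∀ (χ : Cfsg.IrrCharacter G) (μ : C →* ℂˣ), ∃ k : ℕ, mult (χ : G → ℂ) μ = k := fun χ μ =>
    exists_classInner_nat (isCharacter_comp C.subtype (isCharacter_irr χ))
      (isCharacter_irr (Characters.Linear.linChar μ))
  choose M hM using hnat
  have hdiff : ∀ (χ : Cfsg.IrrCharacter G) (ν μ : C →* ℂˣ), ν ≠ 1 → μ ≠ 1 →
      (M χ ν : ℤ) - M χ μ = ε * ((if χ = X (orb ν) then 1 else 0) -
        if χ = X (orb μ) then 1 else 0) := by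
    intro χ ν μ hν hμ
    have h := classInner_dfun ν μ (isClassFunction_irr χ)
    rw [hX ν μ hν hμ, classInner_smul_right, classInner_sub_right, classInner_irr, classInner_irr,
      map_intCast, hM, hM] at h
    have h' : (((M χ ν : ℤ) - M χ μ : ℤ) : ℂ) = ((ε * ((if χ = X (orb ν) then (1 : ℤ) else 0) -
        if χ = X (orb μ) then 1 else 0) : ℤ) : ℂ) := by
      push_cast
      exact h.symm
    exact_mod_cast h'
  obtain ⟨O₀, hO₀⟩ := Finset.card_pos.1 (show 0 < K.card by omega)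
  obtain ⟨μ₀, hμ₀, -⟩ := exists_rep hO₀
  let m' : Cfsg.IrrCharacter G → ℤ := fun χ => M χ μ₀ - ε * if χ = X (orb μ₀) then 1 else 0
  let dd : Cfsg.IrrCharacter G → ℤ := fun χ => (M χ 1 : ℤ) - m' χ
  have hMm : ∀ χ (μ : C →* ℂˣ), μ ≠ 1 →
      (M χ μ : ℤ) = m' χ + ε * if χ = X (orb μ) then 1 else 0 := fun χ μ hμ => by
    simp only [m']; linarith [hdiff χ μ μ₀ hμ hμ₀]
  -- values
  have hval : ∀ (χ : Cfsg.IrrCharacter G) (c : C), (χ : G → ℂ) (c : G) =
      (m' χ : ℂ) * (∑ μ : C →* ℂˣ, (μ c : ℂ)) + dd χ +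
        ε * ∑ O ∈ K, (if χ = X O then 1 else 0) * yfun O c := by
    intro χ c
    have h := expand hC (fun c : C => (χ : G → ℂ) (c : G)) c
    rw [h, ← Finset.sum_erase_add _ _ (Finset.mem_univ (1 : C →* ℂˣ))]
    have e1 : ∀ μ ∈ Finset.univ.erase (1 : C →* ℂˣ),
        Cfsg.classInner (fun c : C => (χ : G → ℂ) (c : G)) (lfun μ) * (μ c : ℂ) =
          (m' χ : ℂ) * (μ c : ℂ) + ε * ((if χ = X (orb μ) then 1 else 0) * (μ c : ℂ)) := by
      intro μ hμ
      rw [show Cfsg.classInner (fun c : C => (χ : G → ℂ) (c : G)) (lfun μ) = mult (χ : G → ℂ) μ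
        from rfl, hM, show ((M χ μ : ℕ) : ℂ) = ((M χ μ : ℤ) : ℂ) by simp,
        hMm χ μ (Finset.mem_erase.1 hμ).1]
      push_cast
      ring
    rw [Finset.sum_congr rfl e1, Finset.sum_add_distrib, ← Finset.mul_sum, ← Finset.mul_sum,
      ← sum_orbits hC fun μ : C →* ℂˣ => (if χ = X (orb μ) then (1 : ℂ) else 0) * (μ c : ℂ),
      ← Finset.sum_erase_add _ _ (Finset.mem_univ (1 : C →* ℂˣ)),
      show Cfsg.classInner (fun c : C => (χ : G → ℂ) (c : G)) (lfun (1 : C →* ℂˣ)) =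
        mult (χ : G → ℂ) 1 from rfl, hM]
    rw [Finset.sum_congr rfl (g := fun O => (if χ = X O then (1 : ℂ) else 0) * yfun O c) fun O hO => by
      obtain ⟨ν, hν, rfl⟩ := exists_rep hO
      rw [yfun, Finset.mul_sum]
      exact Finset.sum_congr rfl fun μ hμ => by rw [orb_eq hμ]]
    simp only [dd, MonoidHom.one_apply, Units.val_one]
    push_cast
    ring
  set A := K.image X with hA
  have hAcard : A.card = K.card := Finset.card_image_of_injOn hinj
  have hnot : ∀ χ, χ ∉ A → ∀ c : C, (∑ O ∈ K, (if χ = X O then (1 : ℂ) else 0) * yfun O c) = 0 :=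
    fun χ hχ c => Finset.sum_eq_zero fun O hO => by
      rw [if_neg (show ¬ χ = X O from fun h => hχ (by rw [h]; exact Finset.mem_image_of_mem X hO)),
        zero_mul]
  have hyes : ∀ O ∈ K, ∀ c : C,
      (∑ P ∈ K, (if X O = X P then (1 : ℂ) else 0) * yfun P c) = yfun O c := fun O hO c => by
    rw [Finset.sum_eq_single O (fun P hP hne => by
      rw [if_neg fun h => hne (hinj hP hO h.symm), zero_mul]) (fun h => absurd hO h), if_pos rfl,
      one_mul]
  have hvalA : ∀ O ∈ K, ∀ c : C, c ≠ 1 → (X O : G → ℂ) (c : G) = dd (X O) + ε * yfun O c := by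
    intro O hO c hc
    rw [hval, sum_lfun hC hc, mul_zero, zero_add, hyes O hO]
  have hdfun : ∀ (ν μ : C →* ℂˣ), ν ≠ 1 → μ ≠ 1 → ∀ g : G,
      (X (orb ν) : G → ℂ) g - (X (orb μ) : G → ℂ) g = (ε : ℂ) * dfun ν μ g := by
    intro ν μ hν hμ g
    rw [hX ν μ hν hμ, Pi.smul_apply, Pi.sub_apply, smul_eq_mul, ← mul_assoc, hε2, one_mul]
  obtain ⟨c₀, hc₀⟩ : ∃ c : C, c ≠ 1 := by
    by_contra hall
    push Not at hall
    apply hμ₀
    exact MonoidHom.ext fun c => by rw [hall c, map_one, MonoidHom.one_apply]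
  have hddA : ∀ O ∈ K, dd (X O) = dd (X O₀) := by
    intro O hO
    obtain ⟨ν, hν, rfl⟩ := exists_rep hO
    obtain ⟨μ, hμ, rfl⟩ := exists_rep hO₀
    have h := hdfun ν μ hν hμ (c₀ : G)
    rw [hvalA _ hO c₀ hc₀, hvalA _ hO₀ c₀ hc₀,
      congrFun (dfun_restrict hC he hν hμ) c₀, Pi.sub_apply] at h
    have : ((dd (X (orb ν)) : ℤ) : ℂ) = ((dd (X (orb μ)) : ℤ) : ℂ) := by linear_combination h
    exact_mod_cast this
  choose D hD0 hD using fun χ : Cfsg.IrrCharacter G => exists_degree_pos χ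
  have hdegA : ∀ O ∈ K, D (X O) = D (X O₀) := by
    intro O hO
    obtain ⟨ν, hν, rfl⟩ := exists_rep hO
    obtain ⟨μ, hμ, rfl⟩ := exists_rep hO₀
    have h := hdfun ν μ hν hμ 1
    rw [dfun_one, mul_zero, hD, hD, sub_eq_zero] at h
    exact_mod_cast h
  have hsum1 : (∑ μ : C →* ℂˣ, ((μ 1 : ℂˣ) : ℂ)) = (Nat.card C : ℂ) := by
    simp [card_dual hC]
  have hKmem : ∀ χ ∈ A, ∃ O ∈ K, X O = χ := fun χ hχ => Finset.mem_image.1 hχ
  refine ⟨ε, dd (X O₀), D (X O₀), A, dd, hε, hAcard, ?_, ?_, ?_, ?_, ?_, ?_, ?_, ?_⟩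
  · intro χ hχ
    obtain ⟨O, hO, rfl⟩ := hKmem χ hχ
    rw [hD, hdegA O hO]
  · have h := hval (X O₀) 1
    rw [hsum1, hyes O₀ hO₀, yfun_one, OneMemClass.coe_one, hD] at h
    obtain ⟨ν, hν, hνO⟩ := exists_rep hO₀
    rw [show O₀.card = e by rw [← hνO]; exact he ν hν] at h
    refine ⟨m' (X O₀), ?_⟩
    have : (((D (X O₀) : ℤ) - (dd (X O₀) + ε * e) : ℤ) : ℂ) =
        (((Nat.card C : ℤ) * m' (X O₀) : ℤ) : ℂ) := by
      push_cast
      linear_combination h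
    exact_mod_cast this
  · intro χ hχ
    refine ⟨fun c hc => ?_, fun n hn => ?_⟩
    · rw [hval, sum_lfun hC hc, hnot χ hχ c, mul_zero, mul_zero, zero_add, add_zero]
    · have h := hval χ 1
      rw [hsum1, hnot χ hχ 1, OneMemClass.coe_one, hn, mul_zero, add_zero] at h
      refine ⟨m' χ, ?_⟩
      have : (((n : ℤ) - dd χ : ℤ) : ℂ) = (((Nat.card C : ℤ) * m' χ : ℤ) : ℂ) := by
        push_cast
        linear_combination h
      exact_mod_cast this
  · intro χ hχ z hz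
    obtain ⟨O, hO, rfl⟩ := hKmem χ hχ
    obtain ⟨ν, hν, rfl⟩ := exists_rep hO
    have hconst : ∀ μ : C →* ℂˣ, μ ≠ 1 →
        mult (X (orb ν) : G → ℂ) μ = (Nat.card C : ℂ)⁻¹ * ((X (orb ν) : G → ℂ) 1 - z) := by
      intro μ hμ
      have hs0 : ∑ c : C, conj ((μ c : ℂˣ) : ℂ) = 0 := by
        have h0 := sum_hom_units_eq_zero ((Units.coeHom ℂ).comp μ) fun h =>
          hμ (MonoidHom.ext fun c => Units.ext (DFunLike.congr_fun h c))
        simp only [MonoidHom.coe_comp, Function.comp_apply, Units.coeHom_apply] at h0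
        rw [← map_sum, h0, map_zero]
      simp only [mult, Cfsg.classInner, lfun]
      congr 1
      rw [← sub_zero (∑ c : C, _), ← mul_zero z, ← hs0, Finset.mul_sum, ← Finset.sum_sub_distrib,
        Finset.sum_eq_single 1 (fun c _ hc => by rw [hz c hc, sub_self]) (by simp)]
      simp
    obtain ⟨P, hP, hPO⟩ : ∃ P ∈ K, P ≠ orb ν :=
      Finset.exists_mem_ne (show 1 < K.card by omega) _
    obtain ⟨μ, hμ, rfl⟩ := exists_rep hP
    have h := hdiff (X (orb ν)) ν μ hν hμ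
    rw [if_pos rfl, if_neg fun h => hPO (hinj hO hP h).symm] at h
    have h2 := (hM _ ν).symm.trans ((hconst ν hν).trans ((hconst μ hμ).symm.trans (hM _ μ)))
    rw [Nat.cast_inj.1 h2] at h
    rcases hε with rfl | rfl <;> omega
  · intro χ hχ χ' hχ' heq
    obtain ⟨O, hO, rfl⟩ := hKmem χ hχ
    obtain ⟨P, hP, rfl⟩ := hKmem χ' hχ'
    obtain ⟨ν, hν, rfl⟩ := exists_rep hO
    obtain ⟨μ, hμ, rfl⟩ := exists_rep hP
    have h0 : ∀ c : C, dfun ν μ (c : G) = 0 := by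
      intro c
      by_cases hc : c = 1
      · rw [hc]; exact dfun_one ν μ
      · have h := hdfun ν μ hν hμ (c : G)
        rw [heq c hc, sub_self] at h
        rcases hε with rfl | rfl <;> simpa using h.symm
    have h1 := congrArg (fun f : C → ℂ => Cfsg.classInner f (lfun ν))
      (dfun_restrict hC he hν hμ)
    simp only [h0, classInner_sub_left, classInner_yfun', self_mem_orb, if_true] at h1
    rw [show Cfsg.classInner (fun _ : C => (0 : ℂ)) (lfun ν) = 0 by simp [Cfsg.classInner]] at h1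
    split_ifs at h1 with hmem
    · rw [orb_eq hmem]
    · simp at h1
  · intro χ hχ χ' hχ' g hg1 hg
    obtain ⟨O, hO, rfl⟩ := hKmem χ hχ
    obtain ⟨P, hP, rfl⟩ := hKmem χ' hχ'
    obtain ⟨ν, hν, rfl⟩ := exists_rep hO
    obtain ⟨μ, hμ, rfl⟩ := exists_rep hP
    have h := hdfun ν μ hν hμ g
    rwa [dfun_eq_zero ν μ hg1 hg, mul_zero, sub_eq_zero] at h
  · intro c hc
    have h := sum_orbits hC fun μ : C →* ℂˣ => (μ c : ℂ)
    have h2 := Finset.sum_erase_add _ (fun μ : C →* ℂˣ => (μ c : ℂ)) (Finset.mem_univ (1 : C →* ℂˣ))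
    rw [sum_lfun hC hc, MonoidHom.one_apply, Units.val_one] at h2
    rw [hA, Finset.sum_image hinj, Finset.sum_congr rfl fun O hO => by rw [hvalA O hO c hc, hddA O hO],
      Finset.sum_add_distrib, Finset.sum_const, ← Finset.mul_sum, ← hA, hAcard, nsmul_eq_mul]
    simp only [yfun]
    linear_combination (ε : ℂ) * h + (ε : ℂ) * h2
  · have hcol := Characters.Complete.sum_irr_mul_conj (c₀ : G) (c₀ : G)
    rw [if_pos (IsConj.refl _), hC c₀ c₀.2 fun z => hc₀ (Subtype.ext z),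
      ← Finset.sum_sdiff (Finset.subset_univ A)] at hcol
    rw [Finset.sum_congr rfl (g := fun χ => ((dd χ ^ 2 : ℤ) : ℂ)) fun χ hχ => by
      rw [hval, sum_lfun hC hc₀, hnot χ (Finset.mem_sdiff.1 hχ).2 c₀, mul_zero, mul_zero,
        zero_add, add_zero, map_intCast, Int.cast_pow, sq]] at hcol
    rw [show ∑ χ ∈ A, (χ : G → ℂ) (c₀ : G) * conj ((χ : G → ℂ) (c₀ : G)) =
        ∑ O ∈ K, ((dd (X O₀) : ℂ) ^ 2 + (ε * dd (X O₀) : ℂ) * (yfun O c₀ + conj (yfun O c₀)) +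
          yfun O c₀ * conj (yfun O c₀)) by
      rw [hA, Finset.sum_image hinj]
      refine Finset.sum_congr rfl fun O hO => ?_
      rw [hvalA O hO c₀ hc₀, hddA O hO, map_add, map_mul, map_intCast, map_intCast]
      linear_combination (yfun O c₀ * conj (yfun O c₀)) * hε2] at hcol
    have hY : ∑ O ∈ K, yfun O c₀ = -1 := by
      have h := sum_orbits hC fun μ : C →* ℂˣ => (μ c₀ : ℂ)
      have h2 := Finset.sum_erase_add _ (fun μ : C →* ℂˣ => (μ c₀ : ℂ)) (Finset.mem_univ (1 : C →* ℂˣ))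
      rw [sum_lfun hC hc₀, MonoidHom.one_apply, Units.val_one] at h2
      simp only [yfun]
      linear_combination h + h2
    rw [Finset.sum_add_distrib, Finset.sum_add_distrib, Finset.sum_const, ← Finset.mul_sum,
      Finset.sum_add_distrib, ← map_sum, hY, sum_yfun_conj hC he hc₀, map_neg, map_one,
      ← hAcard, nsmul_eq_mul] at hcol
    have : ((∑ χ ∈ Finset.univ \ A, dd χ ^ 2 : ℤ) : ℂ) =
        ((e + 2 * ε * dd (X O₀) - (A.card : ℤ) * dd (X O₀) ^ 2 : ℤ) : ℂ) := by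
      push_cast
      push_cast at hcol
      linear_combination hcol
    exact_mod_cast this

end Cfsg.Agent.Lib.SuzukiSystem68
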